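import Mathlib

/-!
# Functions with zero differential on a smooth algebra over a perfect field are `p`-th powers
-/

set_option autoImplicit false
universe u

open TensorProduct

noncomputable section

namespace Groth.Agent.H27PGrp

variable {p : ℕ} [hp : Fact p.Prime] {k : Type u} [Field k] [CharP k p] [PerfectRing k p]

theorem mem_adjoin_pow {P C : Type u} [CommRing P] [CommRing C] [Algebra P C] [Algebra.FiniteType P C]
    [Algebra.FormallyUnramified P C] [CharP C p] (c : C) :
    c ∈ Algebra.adjoin P (Set.range fun a : C => a ^ p) := by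
  let C' := Algebra.adjoin P (Set.range fun a : C => a ^ p)
  have hmem : ∀ a : C, a ^ p ∈ C' := fun a => Algebra.subset_adjoin ⟨a, rfl⟩
  haveI : Algebra.IsIntegral C' C :=
    ⟨fun a => IsIntegral.of_pow hp.out.pos (isIntegral_algebraMap (x := (⟨a ^ p, hmem a⟩ : C')))⟩
  haveI : Algebra.FiniteType C' C := Algebra.FiniteType.of_restrictScalars_finiteType P C' C
  haveI : Module.Finite C' C := Algebra.IsIntegral.finite
  haveI : Algebra.FormallyUnramified C' C := Algebra.FormallyUnramified.of_restrictScalars P C' C
  obtain ⟨e, he, hI⟩ : ∃ e, IsIdempotentElem e ∧ KaehlerDifferential.ideal C' C = C ⊗[C'] C ∙ e :=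
    (Ideal.isIdempotentElem_iff_of_fg _ (KaehlerDifferential.ideal_fg C' C)).mp <|
      (Ideal.cotangent_subsingleton_iff _).mp <| inferInstanceAs <| Subsingleton Ω[C⁄C']
  have hnil : KaehlerDifferential.ideal C' C ≤ nilradical (C ⊗[C'] C) := by
    rw [← KaehlerDifferential.span_range_eq_ideal, Ideal.span_le]
    rintro _ ⟨s, rfl⟩
    refine ⟨p, ?_⟩
    have hsp : ((1 : C) ⊗ₜ[C'] (s ^ p) : C ⊗[C'] C) = (s ^ p) ⊗ₜ[C'] (1 : C) := by
      rw [show s ^ p = (⟨s ^ p, hmem s⟩ : C') • (1 : C) by rw [Subalgebra.smul_def, smul_eq_mul, mul_one],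
        TensorProduct.tmul_smul, TensorProduct.smul_tmul']
    rcases subsingleton_or_nontrivial (C ⊗[C'] C) with h | h
    · exact Subsingleton.elim _ _
    haveI : CharP (C ⊗[C'] C) p := (CharP.charP_iff_prime_eq_zero hp.out).mpr (by
      rw [← map_natCast (algebraMap C (C ⊗[C'] C)), CharP.cast_eq_zero, map_zero])
    rw [sub_pow_char, Algebra.TensorProduct.tmul_pow, Algebra.TensorProduct.tmul_pow, one_pow, hsp, sub_self]
    exact zero_mem _
  have he0 : e = 0 := by
    obtain ⟨n, hn⟩ := hnil (hI ▸ Submodule.mem_span_singleton_self e : e ∈ KaehlerDifferential.ideal C' C)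
    rw [← he.pow_succ_eq n, pow_succ, hn, zero_mul]
  haveI : Algebra.IsEpi C' C := (Algebra.isEpi_iff_forall_one_tmul_eq C' C).mpr fun a => by
    have h1 := KaehlerDifferential.one_smul_sub_smul_one_mem_ideal C' a
    rw [hI, he0, Submodule.mem_span_singleton] at h1
    obtain ⟨z, hz⟩ := h1
    rw [smul_zero] at hz
    exact sub_eq_zero.mp hz.symm
  obtain ⟨z, hz⟩ := (Algebra.isEpi_iff_surjective_algebraMap_of_finite.mp inferInstance : Function.Surjective (algebraMap C' C)) c
  exact hz ▸ z.2

theorem exists_pow_of_standardSmooth {C : Type u} [CommRing C] [Algebra k C] [CharP C p]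
    [Algebra.IsStandardSmooth k C] (f : C) (hf : KaehlerDifferential.D k C f = 0) : ∃ a, f = a ^ p := by
  classical
  haveI : Nontrivial C := CharP.nontrivial_of_char_ne_one hp.out.ne_one
  obtain ⟨ι, σ, _, _, ⟨S⟩⟩ := Algebra.IsStandardSmooth.out (R := k) (S := C)
  haveI : Algebra.IsStandardSmoothOfRelativeDimension S.dimension k C :=
    S.isStandardSmoothOfRelativeDimension rfl
  obtain ⟨g, hg⟩ := Algebra.IsStandardSmoothOfRelativeDimension.exists_etale_mvPolynomial S.dimension k C
  letI : Algebra (MvPolynomial (Fin S.dimension) k) C := g.toRingHom.toAlgebra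
  haveI : IsScalarTower k (MvPolynomial (Fin S.dimension) k) C := IsScalarTower.of_algHom g
  haveI : Algebra.Etale (MvPolynomial (Fin S.dimension) k) C := hg
  generalize S.dimension = d at *
  let am := algebraMap (MvPolynomial (Fin d) k) C
  let x : (Fin d →₀ ℕ) → C := fun e => am (MvPolynomial.monomial e 1)
  -- Euler operators
  have hE : ∀ i : Fin d, ∃ E : Derivation k C C, ∀ m, E (am m) = am (MvPolynomial.X i * MvPolynomial.pderiv i m) := by
    intro i
    let δ : Derivation k (MvPolynomial (Fin d) k) C :=
      (Algebra.linearMap (MvPolynomial (Fin d) k) C).compDer ((MvPolynomial.X i : MvPolynomial (Fin d) k) • (MvPolynomial.pderiv i :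
        Derivation k (MvPolynomial (Fin d) k) (MvPolynomial (Fin d) k)))
    let l : Ω[C⁄k] →ₗ[C] C := (LinearMap.liftBaseChange C δ.liftKaehlerDifferential).comp
      (KaehlerDifferential.tensorKaehlerEquivOfFormallyEtale k (MvPolynomial (Fin d) k) C).symm.toLinearMap
    refine ⟨l.compDer (KaehlerDifferential.D k C), fun m => ?_⟩
    change l (KaehlerDifferential.D k C (am m)) = _
    simp only [l, am, LinearMap.comp_apply, LinearEquiv.coe_coe,
      KaehlerDifferential.tensorKaehlerEquivOfFormallyEtale_symm_D_algebraMap, LinearMap.liftBaseChange_tmul,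
      one_smul, Derivation.liftKaehlerDifferential_comp_D]
    rfl
  choose E hE using hE
  have hEterm : ∀ i a e, E i (a ^ p * x e) = (e i : C) * (a ^ p * x e) := by
    intro i a e
    rw [Derivation.leibniz, Derivation.leibniz_pow, nsmul_eq_mul, CharP.cast_eq_zero, zero_mul, smul_zero, add_zero,
      smul_eq_mul]
    change a ^ p * E i (am (MvPolynomial.monomial e 1)) = _
    rw [hE, MvPolynomial.X_mul_pderiv_monomial, map_nsmul, nsmul_eq_mul]
    simp only [x, am]
    ring
  -- all elements are sums of terms
  let T : Finset (Fin d) → Set C := fun J => {c | ∃ (a : C) (e : Fin d →₀ ℕ), (∀ i ∈ J, p ∣ e i) ∧ c = a ^ p * x e}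
  have hall : ∀ c : C, c ∈ AddSubmonoid.closure (T ∅) := by
    intro c
    have hc := mem_adjoin_pow (p := p) (P := MvPolynomial (Fin d) k) c
    have hmulmem : ∀ a b : C, a ∈ AddSubmonoid.closure (T ∅) → b ∈ AddSubmonoid.closure (T ∅) →
        a * b ∈ AddSubmonoid.closure (T ∅) := by
      intro a b ha hb
      induction ha using AddSubmonoid.closure_induction with
      | mem a ha =>
        induction hb using AddSubmonoid.closure_induction with
        | mem b hb =>
          obtain ⟨a, e, -, rfl⟩ := ha
          obtain ⟨b, e', -, rfl⟩ := hb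
          refine AddSubmonoid.subset_closure ⟨a * b, e + e', by simp, ?_⟩
          simp only [x, mul_pow]
          rw [show MvPolynomial.monomial (e + e') (1 : k) = MvPolynomial.monomial e 1 * MvPolynomial.monomial e' 1 by
            rw [MvPolynomial.monomial_mul, one_mul], map_mul]
          ring
        | zero => rw [mul_zero]; exact zero_mem _
        | add b b' _ _ h h' => rw [mul_add]; exact add_mem h h'
      | zero => rw [zero_mul]; exact zero_mem _
      | add a a' _ _ h h' => rw [add_mul]; exact add_mem h h'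
    induction hc using Algebra.adjoin_induction with
    | mem c hc =>
      obtain ⟨a, rfl⟩ := hc
      exact AddSubmonoid.subset_closure ⟨a, 0, by simp, by simp [x, am]⟩
    | algebraMap m =>
      induction m using MvPolynomial.induction_on' with
      | monomial e r =>
        obtain ⟨s, rfl⟩ := surjective_frobenius k p r
        refine AddSubmonoid.subset_closure ⟨algebraMap k C s, e, by simp, ?_⟩
        rw [← map_pow, frobenius_def, IsScalarTower.algebraMap_apply k (MvPolynomial (Fin d) k) C]
        simp only [x, am, ← map_mul]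
        rw [MvPolynomial.algebraMap_eq, MvPolynomial.C_mul_monomial, mul_one]
      | add m m' h h' => rw [map_add]; exact add_mem h h'
    | add a b _ _ ha hb => exact add_mem ha hb
    | mul a b _ _ ha hb => exact hmulmem a b ha hb
  have hE0 : ∀ i, E i f = 0 := fun i => by
    rw [← (E i).liftKaehlerDifferential_comp_D, hf, map_zero]
  have hJ : ∀ J : Finset (Fin d), f ∈ AddSubmonoid.closure (T J) := by
    intro J
    induction J using Finset.induction with
    | empty => exact hall f
    | @insert i J hi ih =>
      let L : C →+ C := AddMonoidHom.id C - ((E i).toLinearMap ^ (p - 1)).toAddMonoidHom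
      have hLf : L f = f := by
        have h0 : ((E i).toLinearMap ^ (p - 1)) f = 0 := by
          rw [show p - 1 = (p - 2) + 1 by have := hp.out.two_le; omega, pow_succ, Module.End.mul_apply]
          change ((E i).toLinearMap ^ (p - 2)) (E i f) = 0
          rw [hE0, map_zero]
        change f - ((E i).toLinearMap ^ (p - 1)) f = f
        rw [h0, sub_zero]
      rw [← hLf]
      refine (AddSubmonoid.closure_le (S := (AddSubmonoid.closure (T (insert i J))).comap L)).mpr (fun c hc => ?_) ih
      obtain ⟨a, e, he, rfl⟩ := hc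
      have hpow : ∀ j, ((E i).toLinearMap ^ j) (a ^ p * x e) = (e i : C) ^ j * (a ^ p * x e) := by
        intro j
        induction j with
        | zero => simp
        | succ j ihj =>
          rw [pow_succ', Module.End.mul_apply, ihj]
          change E i ((e i : C) ^ j * (a ^ p * x e)) = _
          rw [Derivation.leibniz, hEterm, Derivation.leibniz_pow, Derivation.map_natCast]
          simp only [smul_zero, smul_eq_mul, mul_zero, add_zero, pow_succ]
          ring
      change L (a ^ p * x e) ∈ AddSubmonoid.closure (T (insert i J))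
      change a ^ p * x e - ((E i).toLinearMap ^ (p - 1)) (a ^ p * x e) ∈ _
      rw [hpow]
      by_cases hd : p ∣ e i
      · rw [(CharP.cast_eq_zero_iff C p (e i)).mpr hd, zero_pow (by have := hp.out.two_le; omega), zero_mul,
          sub_zero]
        exact AddSubmonoid.subset_closure ⟨a, e, fun j hj => (Finset.mem_insert.mp hj).elim (· ▸ hd) (he j), rfl⟩
      · have h1 : ((e i : ℕ) : ZMod p) ≠ 0 := fun h => hd ((ZMod.natCast_eq_zero_iff _ _).mp h)
        have h2 : ((e i : C)) ^ (p - 1) = 1 := by
          rw [← map_natCast (ZMod.castHom (dvd_refl p) C), ← map_pow, ZMod.pow_card_sub_one_eq_one h1, map_one]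
        rw [h2, one_mul, sub_self]
        exact zero_mem _
  have hfin := hJ Finset.univ
  clear hJ hE0 hf
  induction hfin using AddSubmonoid.closure_induction with
  | mem c hc =>
    obtain ⟨a, e, he, rfl⟩ := hc
    refine ⟨a * x (e.mapRange (· / p) (Nat.zero_div p)), ?_⟩
    rw [mul_pow]
    congr 1
    simp only [x]
    rw [← map_pow, MvPolynomial.monomial_pow, one_pow]
    refine congrArg (fun e' => am (MvPolynomial.monomial e' (1 : k))) (Finsupp.ext fun i => ?_)
    simp [Nat.mul_div_cancel' (he i (Finset.mem_univ i))]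
  | zero => exact ⟨0, (zero_pow hp.out.ne_zero).symm⟩
  | add a b _ _ ha hb =>
    obtain ⟨s, rfl⟩ := ha
    obtain ⟨t, rfl⟩ := hb
    exact ⟨s + t, (add_pow_char s t p).symm⟩

/-- functions with zero differential on a smooth algebra are `p`-th powers -/
theorem exists_pow_of_smooth {A : Type u} [CommRing A] [Algebra k A] [CharP A p] [Algebra.Smooth k A] (f : A)
    (hf : KaehlerDifferential.D k A f = 0) : ∃ a, f = a ^ p := by
  let J : Ideal A :=
    { carrier := {s | ∃ a, s ^ p * f = a ^ p}
      add_mem' := by
        rintro s t ⟨a, ha⟩ ⟨b, hb⟩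
        exact ⟨a + b, by rw [add_pow_char, add_mul, ha, hb, add_pow_char]⟩
      zero_mem' := ⟨0, by rw [zero_pow hp.out.ne_zero, zero_mul]⟩
      smul_mem' := by
        rintro c s ⟨a, ha⟩
        exact ⟨c * a, by rw [smul_eq_mul, mul_pow, mul_assoc, ha, mul_pow]⟩ }
  suffices h : J = ⊤ by
    obtain ⟨a, ha⟩ := (h ▸ Submodule.mem_top : (1 : A) ∈ J)
    exact ⟨a, by rw [← ha, one_pow, one_mul]⟩
  obtain ⟨s, hs, hstd⟩ := Algebra.Smooth.exists_span_eq_top_isStandardSmooth k A
  by_contra hJ
  obtain ⟨m, hm, hJm⟩ := Ideal.exists_le_maximal J hJ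
  obtain ⟨t, hts, htm⟩ : ∃ t ∈ s, t ∉ m := by
    by_contra hne
    push Not at hne
    exact hm.ne_top (top_le_iff.mp (hs ▸ Ideal.span_le.mpr hne))
  haveI := hstd t hts
  haveI : Nontrivial (Localization.Away t) := by
    refine not_subsingleton_iff_nontrivial.1 fun h => htm ?_
    obtain ⟨⟨_, n, rfl⟩, hn⟩ := (IsLocalization.map_eq_zero_iff (Submonoid.powers t)
      (Localization.Away t) 1).1 (Subsingleton.elim _ _)
    exact hm.isPrime.mem_of_pow_mem n (by simp only [mul_one] at hn; rw [hn]; exact zero_mem _)
  haveI : CharP (Localization.Away t) p := (CharP.charP_iff_prime_eq_zero hp.out).mpr (by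
    rw [← map_natCast (algebraMap A (Localization.Away t)), CharP.cast_eq_zero, map_zero])
  obtain ⟨b, hb⟩ := exists_pow_of_standardSmooth (k := k) (algebraMap A (Localization.Away t) f) (by
    rw [← KaehlerDifferential.map_D k k A (Localization.Away t) f, hf, map_zero])
  obtain ⟨n, a, ha⟩ := IsLocalization.Away.surj t b
  obtain ⟨⟨_, l, rfl⟩, hl⟩ := (IsLocalization.eq_iff_exists (Submonoid.powers t) (Localization.Away t)).mp
    (show algebraMap A (Localization.Away t) ((t ^ n) ^ p * f) = algebraMap A (Localization.Away t) (a ^ p) by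
      rw [map_mul, map_pow, map_pow, hb, map_pow, ← ha, mul_pow, mul_comm])
  refine htm (hm.isPrime.mem_of_pow_mem (n + l) (hJm ⟨t ^ l * a, ?_⟩))
  simp only at hl
  calc (t ^ (n + l)) ^ p * f = (t ^ l) ^ (p - 1) * (t ^ l * ((t ^ n) ^ p * f)) := by
        rw [pow_add, mul_pow, ← mul_assoc ((t ^ l) ^ (p - 1)) (t ^ l), ← pow_succ,
          Nat.sub_add_cancel hp.out.one_lt.le]
        ring
    _ = (t ^ l) ^ (p - 1) * (t ^ l * a ^ p) := by rw [hl]
    _ = (t ^ l * a) ^ p := by
        rw [← mul_assoc, ← pow_succ, Nat.sub_add_cancel hp.out.one_lt.le, mul_pow]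

end Groth.Agent.H27PGrp
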