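import Groth.Agent.H19Grp.PointsDense
import Groth.Agent.H27PGrp.FrobKer
import Mathlib

/-!
# Smooth affine groups through their algebra of functions and their rational points
-/

set_option autoImplicit false
set_option linter.style.haveILetI false
universe u

open TensorProduct

noncomputable section

namespace Groth.Agent.H27PGrp

/-- an affine group given by its algebra of functions and its group of rational points -/
structure PGrp (k : Type u) [Field k] (A : Type u) [CommRing A] [Algebra k A] where
  /-- rational points -/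
  P : Type u
  [grp : AddCommGroup P]
  /-- evaluation -/
  pt : P ≃ (A →ₐ[k] k)
  decomp : ∀ a : A, ∃ (n : ℕ) (b c : Fin n → A), ∀ x y, pt (x + y) a = ∑ i, pt x (b i) * pt y (c i)
  negP : ∀ a : A, ∃ a' : A, ∀ x, pt (-x) a = pt x a'

attribute [instance] PGrp.grp

variable {k : Type u} [Field k] {A : Type u} [CommRing A] [Algebra k A]

theorem isReduced_of_smooth (k : Type u) [Field k] (A : Type u) [CommRing A] [Algebra k A] [Algebra.Smooth k A] :
    IsReduced A :=
  H02CA.isReduced_of_smooth k A

theorem isNoetherianRing_of_smooth (k : Type u) [Field k] (A : Type u) [CommRing A] [Algebra k A]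
    [Algebra.Smooth k A] : IsNoetherianRing A :=
  Algebra.FiniteType.isNoetherianRing k A

/-- elements of smooth algebras are determined by rational points -/
theorem ext_algHom [IsAlgClosed k] [Algebra.Smooth k A] {a b : A} (h : ∀ φ : A →ₐ[k] k, φ a = φ b) : a = b := by
  haveI := isReduced_of_smooth k A
  by_contra hne
  obtain ⟨φ, hφ⟩ := H19Grp.PointsDense.exists_algHom_ne_zero (k := k) (K := k) (sub_ne_zero.mpr hne)
  exact hφ (by rw [map_sub, h, sub_self])

namespace PGrp

variable (G : PGrp k A)

theorem exists_trans (a : A) (y : G.P) : ∃ a' : A, ∀ x, G.pt x a' = G.pt (x + y) a := by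
  obtain ⟨n, b, c, h⟩ := G.decomp a
  exact ⟨∑ i, G.pt y (c i) • b i, fun x => by simp [h, mul_comm]⟩

variable [IsAlgClosed k] [Algebra.Smooth k A]

theorem ext_pt {a b : A} (h : ∀ x, G.pt x a = G.pt x b) : a = b :=
  ext_algHom fun φ => by simpa using h (G.pt.symm φ)

/-- translation of functions -/
def R (y : G.P) : A →ₐ[k] A where
  toFun a := (G.exists_trans a y).choose
  map_one' := G.ext_pt fun x => by rw [(G.exists_trans 1 y).choose_spec x, map_one, map_one]
  map_mul' a b := G.ext_pt fun x => by
    rw [(G.exists_trans _ y).choose_spec x, map_mul, map_mul, (G.exists_trans a y).choose_spec x,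
      (G.exists_trans b y).choose_spec x]
  map_zero' := G.ext_pt fun x => by rw [(G.exists_trans 0 y).choose_spec x, map_zero, map_zero]
  map_add' a b := G.ext_pt fun x => by
    rw [(G.exists_trans _ y).choose_spec x, map_add (G.pt x), map_add (G.pt (x + y)), (G.exists_trans a y).choose_spec x,
      (G.exists_trans b y).choose_spec x]
  commutes' c := G.ext_pt fun x => by
    rw [(G.exists_trans _ y).choose_spec x, AlgHom.commutes, AlgHom.commutes]

@[simp] theorem pt_R (x y : G.P) (a : A) : G.pt x (G.R y a) = G.pt (x + y) a :=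
  (G.exists_trans a y).choose_spec x

theorem R_zero (a : A) : G.R 0 a = a := G.ext_pt fun x => by rw [pt_R, add_zero]

theorem R_R (x y : G.P) (a : A) : G.R x (G.R y a) = G.R (x + y) a :=
  G.ext_pt fun z => by rw [pt_R, pt_R, pt_R, add_assoc]

/-- inversion of functions -/
def neg' : A →ₐ[k] A where
  toFun a := (G.negP a).choose
  map_one' := G.ext_pt fun x => by rw [← (G.negP 1).choose_spec x, map_one, map_one]
  map_mul' a b := G.ext_pt fun x => by
    rw [← (G.negP _).choose_spec x, map_mul, map_mul, ← (G.negP a).choose_spec x, ← (G.negP b).choose_spec x]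
  map_zero' := G.ext_pt fun x => by rw [← (G.negP 0).choose_spec x, map_zero, map_zero]
  map_add' a b := G.ext_pt fun x => by
    rw [← (G.negP _).choose_spec x, map_add, map_add, ← (G.negP a).choose_spec x, ← (G.negP b).choose_spec x]
  commutes' c := G.ext_pt fun x => by rw [← (G.negP _).choose_spec x, AlgHom.commutes, AlgHom.commutes]

@[simp] theorem pt_neg' (x : G.P) (a : A) : G.pt x (G.neg' a) = G.pt (-x) a := ((G.negP a).choose_spec x).symm

/-- additive functions -/
def IsAdd (f : A) : Prop := ∀ x y, G.pt (x + y) f = G.pt x f + G.pt y f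

theorem IsAdd.zero {f : A} (hf : G.IsAdd f) : G.pt 0 f = 0 := by
  have h := hf 0 0
  rw [add_zero] at h
  exact left_eq_add.mp h

theorem IsAdd.R_eq {f : A} (hf : G.IsAdd f) (y : G.P) : G.R y f = f + algebraMap k A (G.pt y f) :=
  G.ext_pt fun x => by rw [pt_R, hf, map_add, AlgHom.commutes]; rfl

theorem finiteDimensional_orbit (a : A) :
    ∃ W : Submodule k A, FiniteDimensional k W ∧ ∀ y, G.R y a ∈ W := by
  obtain ⟨n, b, c, h⟩ := G.decomp a
  refine ⟨Submodule.span k (Set.range b), FiniteDimensional.span_of_finite k (Set.finite_range b), fun y => ?_⟩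
  rw [show G.R y a = ∑ i, G.pt y (c i) • b i from G.ext_pt fun x => by simp [h, mul_comm]]
  exact Submodule.sum_mem _ fun i _ => Submodule.smul_mem _ _ (Submodule.subset_span ⟨i, rfl⟩)

variable (p : ℕ) [hp : Fact p.Prime] [CharP k p]

theorem R_sub_id_pow (N : ℕ) (hN : ∀ x : G.P, p ^ N • x = 0) (y : G.P) :
    ((G.R y).toLinearMap - 1) ^ p ^ N = 0 := by
  have h1 := congrArg (Polynomial.aeval (G.R y).toLinearMap)
    (sub_pow_char_pow (Polynomial.X : Polynomial k) 1 (p := p) (n := N))
  simp only [map_pow, map_sub, Polynomial.aeval_X, map_one, one_pow] at h1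
  rw [h1, sub_eq_zero]
  have h2 : ∀ m : ℕ, (G.R y).toLinearMap ^ m = (G.R (m • y)).toLinearMap := by
    intro m
    induction m with
    | zero => exact LinearMap.ext fun a => by simp [R_zero]
    | succ m ih =>
      refine LinearMap.ext fun a => ?_
      rw [pow_succ', Module.End.mul_apply, ih]
      change G.R y (G.R (m • y) a) = G.R ((m + 1) • y) a
      rw [R_R, succ_nsmul' y m]
  rw [h2, hN]
  exact LinearMap.ext fun a => G.R_zero a

/-- there is a nonconstant additive function in the span of the translates -/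
theorem exists_isAdd_mem (N : ℕ) (hN : ∀ x : G.P, p ^ N • x = 0) (a : A)
    (ha : a ∉ Submodule.span k ({1} : Set A)) :
    ∃ f, G.IsAdd f ∧ f ≠ 0 ∧ f ∈ Submodule.span k (Set.range fun y => G.R y a) ⊔ Submodule.span k {1} := by
  classical
  let K : Submodule k A := Submodule.span k {1}
  obtain ⟨W₀, hW₀, haW⟩ := G.finiteDimensional_orbit a
  let V : Submodule k A := Submodule.span k (Set.range fun y => G.R y a) ⊔ K
  haveI : FiniteDimensional k V := by
    haveI : FiniteDimensional k K := FiniteDimensional.span_of_finite k (Set.finite_singleton _)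
    refine Submodule.finiteDimensional_of_le (S₂ := W₀ ⊔ K) (sup_le_sup_right (Submodule.span_le.mpr ?_) _)
    rintro _ ⟨y, rfl⟩
    exact haW y
  let Good : Submodule k A → Prop := fun W => K < W ∧ ∀ y, ∀ w ∈ W, G.R y w ∈ W
  have hV : Good V := by
    refine ⟨lt_of_le_of_ne le_sup_right fun h => ha ?_, fun y => ?_⟩
    · change a ∈ K
      rw [h]
      exact Submodule.mem_sup_left (Submodule.subset_span ⟨0, G.R_zero a⟩)
    · have hle : V ≤ V.comap (G.R y).toLinearMap := by
        refine sup_le (Submodule.span_le.mpr ?_) (Submodule.span_le.mpr ?_)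
        · rintro _ ⟨z, rfl⟩
          change G.R y (G.R z a) ∈ V
          rw [R_R]
          exact Submodule.mem_sup_left (Submodule.subset_span ⟨_, rfl⟩)
        · intro z hz
          rw [Set.mem_singleton_iff.mp hz]
          change G.R y 1 ∈ V
          rw [map_one]
          exact Submodule.mem_sup_right (Submodule.mem_span_singleton_self _)
      exact fun w hw => hle hw
  obtain ⟨d, hd, hmin⟩ : ∃ d, (∃ W, Good W ∧ W ≤ V ∧ Module.finrank k W = d) ∧
      ∀ m < d, ¬ ∃ W, Good W ∧ W ≤ V ∧ Module.finrank k W = m := by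
    have hex : ∃ d, ∃ W, Good W ∧ W ≤ V ∧ Module.finrank k W = d := ⟨_, V, hV, le_rfl, rfl⟩
    exact ⟨Nat.find hex, Nat.find_spec hex, fun m hm => Nat.find_min hex hm⟩
  obtain ⟨W, ⟨hKW, hWst⟩, hWV, hWd⟩ := hd
  have hfix : ∀ y, ∀ w ∈ W, G.R y w - w ∈ K := by
    intro y
    let T : A →ₗ[k] A := (G.R y).toLinearMap - 1
    have hTW : ∀ w ∈ W, T w ∈ W := fun w hw => sub_mem (hWst y w hw) hw
    let W' : Submodule k A := W ⊓ K.comap T
    have hK' : K ≤ W' := le_inf hKW.le (Submodule.span_le.mpr fun z hz => by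
      rw [Set.mem_singleton_iff.mp hz]
      change G.R y 1 - 1 ∈ K
      rw [map_one, sub_self]
      exact zero_mem _)
    have hstr : K < W' := by
      refine lt_of_le_of_ne hK' fun hE => ?_
      obtain ⟨w, hw, hwK⟩ := SetLike.exists_of_lt hKW
      have hiter : ∀ j, (T ^ j) w ∈ W := by
        intro j
        induction j with
        | zero => exact hw
        | succ j ih => rw [pow_succ', Module.End.mul_apply]; exact hTW _ ih
      have hall : ∀ j, (T ^ j) w ∉ K := by
        intro j
        induction j with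
        | zero => exact hwK
        | succ j ih =>
          intro hj
          rw [pow_succ', Module.End.mul_apply] at hj
          exact ih (hE ▸ (⟨hiter j, hj⟩ : (T ^ j) w ∈ W'))
      exact hall _ (by rw [G.R_sub_id_pow p N hN y]; exact zero_mem _)
    have hst' : ∀ z, ∀ w ∈ W', G.R z w ∈ W' := by
      rintro z w ⟨hw1, hw2⟩
      refine ⟨hWst z w hw1, ?_⟩
      change G.R y (G.R z w) - G.R z w ∈ K
      rw [R_R, add_comm y z, ← R_R, ← map_sub]
      obtain ⟨c, hc⟩ := Submodule.mem_span_singleton.mp (hw2 : G.R y w - w ∈ K)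
      rw [show G.R y w - w = c • (1 : A) from hc.symm, map_smul, map_one]
      exact Submodule.smul_mem _ _ (Submodule.mem_span_singleton_self _)
    haveI : FiniteDimensional k W := Submodule.finiteDimensional_of_le hWV
    intro w hw
    have heq : W' = W := by
      refine eq_of_le_of_not_lt inf_le_left fun hlt => ?_
      exact hmin _ (hWd ▸ Submodule.finrank_lt_finrank_of_lt hlt) ⟨W', ⟨hstr, hst'⟩, inf_le_left.trans hWV, rfl⟩
    exact (heq.symm ▸ hw : w ∈ W').2
  obtain ⟨w, hw, hwK⟩ := SetLike.exists_of_lt hKW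
  have hc : ∀ x y, G.pt (x + y) w - G.pt x w = G.pt y w - G.pt 0 w := by
    intro x y
    obtain ⟨c, hc⟩ := Submodule.mem_span_singleton.mp (hfix y w hw)
    have h1 := congrArg (G.pt x) hc
    have h2 := congrArg (G.pt 0) hc
    rw [map_smul, map_one, map_sub, pt_R] at h1 h2
    rw [zero_add] at h2
    rw [← h1, h2]
  refine ⟨w - algebraMap k A (G.pt 0 w), fun x y => ?_, fun h => hwK ?_, sub_mem (hWV hw) ?_⟩
  · simp only [map_sub, AlgHom.commutes]
    have := hc x y
    simp only [Algebra.algebraMap_self, RingHom.id_apply]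
    linear_combination this
  · rw [sub_eq_zero.mp h, Algebra.algebraMap_eq_smul_one]
    exact Submodule.smul_mem _ _ (Submodule.mem_span_singleton_self _)
  · rw [Algebra.algebraMap_eq_smul_one]
    exact Submodule.mem_sup_right (Submodule.smul_mem _ _ (Submodule.mem_span_singleton_self _))

/-- there is a nonconstant additive function -/
theorem exists_isAdd (N : ℕ) (hN : ∀ x : G.P, p ^ N • x = 0) (a : A)
    (ha : a ∉ Submodule.span k ({1} : Set A)) : ∃ f, G.IsAdd f ∧ f ≠ 0 := by
  obtain ⟨f, h1, h2, -⟩ := G.exists_isAdd_mem p N hN a ha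
  exact ⟨f, h1, h2⟩

omit hp [CharP k p] in
/-- in a connected algebra some additive function is not a `p`-th power -/
theorem exists_isAdd_not_pow (hp2 : 2 ≤ p) (hconn : ∀ e : A, IsIdempotentElem e → e = 0 ∨ e = 1)
    {f : A} (hf : G.IsAdd f) (hf0 : f ≠ 0) (hroot : ∀ g : A, G.IsAdd (g ^ p) → G.IsAdd g) :
    ∃ g : A, G.IsAdd g ∧ g ≠ 0 ∧ ∀ a, g ≠ a ^ p := by
  by_contra hne
  push Not at hne
  haveI := isNoetherianRing_of_smooth k A
  have hchoose : ∀ g : {g : A // G.IsAdd g ∧ g ≠ 0}, ∃ h : {g : A // G.IsAdd g ∧ g ≠ 0}, g.1 = h.1 ^ p := by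
    rintro ⟨g, hg, hg0⟩
    obtain ⟨a, ha⟩ := hne g hg hg0
    refine ⟨⟨a, hroot a (ha ▸ hg), fun h => hg0 ?_⟩, ha⟩
    rw [ha, h, zero_pow (by omega)]
  choose nx hnx using hchoose
  let s : ℕ → {g : A // G.IsAdd g ∧ g ≠ 0} := fun n => nx^[n] ⟨f, hf, hf0⟩
  have hs : ∀ n, (s n).1 = (s (n + 1)).1 ^ p := fun n => by
    simp only [s, Function.iterate_succ_apply']
    exact hnx _
  let I : ℕ →o Ideal A := ⟨fun n => Ideal.span {(s n).1}, monotone_nat_of_le_succ fun n => by
    rw [Ideal.span_singleton_le_span_singleton, hs n]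
    exact dvd_pow_self _ (by omega)⟩
  obtain ⟨n, hn⟩ := monotone_stabilizes_iff_noetherian.mpr inferInstance I
  obtain ⟨a, ha⟩ : (s n).1 ∣ (s (n + 1)).1 := Ideal.span_singleton_le_span_singleton.mp (hn (n + 1) (n.le_succ)).ge
  have hg := (s (n + 1)).2
  have hga : (s (n + 1)).1 = a * (s (n + 1)).1 ^ (p - 2) * (s (n + 1)).1 ^ 2 := by
    rw [mul_assoc, ← pow_add, Nat.sub_add_cancel hp2]
    conv_lhs => rw [ha, hs n, mul_comm]
  generalize (s (n + 1)).1 = g at hga hg
  have hid : IsIdempotentElem (a * g ^ (p - 2) * g) := by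
    change a * g ^ (p - 2) * g * (a * g ^ (p - 2) * g) = _
    calc a * g ^ (p - 2) * g * (a * g ^ (p - 2) * g) = a * g ^ (p - 2) * (a * g ^ (p - 2) * g ^ 2) := by ring
      _ = a * g ^ (p - 2) * g := by rw [← hga]
  rcases hconn _ hid with h | h
  · refine hg.2 ?_
    rw [hga, pow_two, ← mul_assoc, h, zero_mul]
  · have h1 := congrArg (G.pt 0) h
    rw [map_mul, hg.1.zero G, mul_zero, map_one] at h1
    exact zero_ne_one h1

end PGrp

end Groth.Agent.H27PGrp
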