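import Groth.Agent.H27Witt.AlgMap
import Mathlib

/-!
# Truncated Witt vectors over a perfect field form an injective `ℤ/p^n`-module
-/

set_option autoImplicit false
universe u

noncomputable section

namespace Groth.Agent.H27PGrp

open Groth.Agent.H27Witt

variable {p : ℕ} [hp : Fact p.Prime] {k : Type u} [Field k] [CharP k p] [PerfectRing k p] {n : ℕ}

theorem exists_eq_nsmul_of_nsmul_eq_zero {j : ℕ} (hj : j ≤ n) (x : TruncatedWittVector p n k)
    (hx : p ^ (n - j) • x = 0) : ∃ z, x = p ^ j • z := by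
  obtain ⟨X, rfl⟩ := WittVector.truncate_surjective p n k x
  rw [← map_nsmul, ← RingHom.mem_ker, WittVector.mem_ker_truncate] at hx
  obtain ⟨Z, hZ⟩ := eq_pow_nsmul (r := j) (x := X) fun i hi => by
    have h := hx ((n - j) + i) (by omega)
    rw [nsmul_eq_mul, mul_comm, Nat.cast_pow] at h
    rw [Nat.add_comm, WittVector.mul_pow_charP_coeff_succ] at h
    exact (pow_eq_zero_iff (pow_ne_zero _ hp.out.ne_zero)).mp h
  exact ⟨WittVector.truncate n Z, by rw [hZ, map_nsmul]⟩

/-- homomorphisms to truncated Witt vectors extend from subgroups -/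
theorem exists_extension {P : Type u} [AddCommGroup P] (hP : ∀ x : P, p ^ n • x = 0) (T : AddSubgroup P)
    (χ : T →+ TruncatedWittVector p n k) : ∃ χ' : P →+ TruncatedWittVector p n k, ∀ t : T, χ' t = χ t := by
  letI : Module (ZMod (p ^ n)) P := AddCommGroup.zmodModule hP
  letI : Module (ZMod (p ^ n)) T := AddCommGroup.zmodModule fun t => Subtype.ext (by
    rw [AddSubgroup.coe_nsmul, hP]; rfl)
  letI : Module (ZMod (p ^ n)) (TruncatedWittVector p n k) :=
    AddCommGroup.zmodModule fun x => pow_nsmul_eq_zero le_rfl x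
  have hB : Module.Baer (ZMod (p ^ n)) (TruncatedWittVector p n k) := by
    intro I g
    let J : Ideal ℤ := I.comap (Int.castRingHom (ZMod (p ^ n)))
    obtain ⟨d, hd⟩ := (IsPrincipalIdealRing.principal J).principal
    have hpn : ((p ^ n : ℕ) : ℤ) ∈ J := by
      change ((((p ^ n : ℕ) : ℤ)) : ZMod (p ^ n)) ∈ I
      rw [Int.cast_natCast, ZMod.natCast_self]
      exact zero_mem _
    rw [hd, Submodule.mem_span_singleton] at hpn
    obtain ⟨c, hc⟩ := hpn
    have hdvd : d.natAbs ∣ p ^ n := ⟨c.natAbs, by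
      have := congrArg Int.natAbs hc
      rw [smul_eq_mul, Int.natAbs_mul, Int.natAbs_natCast] at this
      rw [← this, mul_comm]⟩
    obtain ⟨j, hj, hdj⟩ := (Nat.dvd_prime_pow hp.out).mp hdvd
    have hJ : J = Ideal.span {((p ^ j : ℕ) : ℤ)} := by
      rw [hd, ← hdj]
      exact (Int.span_natAbs d).symm
    have hjI : ((p ^ j : ℕ) : ZMod (p ^ n)) ∈ I := by
      have : ((p ^ j : ℕ) : ℤ) ∈ J := by rw [hJ]; exact Ideal.mem_span_singleton_self _
      change ((((p ^ j : ℕ) : ℤ)) : ZMod (p ^ n)) ∈ I at this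
      rwa [Int.cast_natCast] at this
    have hkill : p ^ (n - j) • g.toAddMonoidHom (⟨_, hjI⟩ : I) = 0 := by
      rw [← map_nsmul]
      convert map_zero g.toAddMonoidHom
      refine Subtype.ext ?_
      rw [Submodule.coe_smul_of_tower, nsmul_eq_mul, ← Nat.cast_mul, ← pow_add, Nat.sub_add_cancel hj]
      exact ZMod.natCast_self _
    obtain ⟨z, hz⟩ := exists_eq_nsmul_of_nsmul_eq_zero hj _ hkill
    refine ⟨LinearMap.toSpanSingleton (ZMod (p ^ n)) _ z, fun x hx => ?_⟩
    obtain ⟨m, rfl⟩ := ZMod.intCast_surjective x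
    have hm : m ∈ J := hx
    rw [hJ, Ideal.mem_span_singleton] at hm
    obtain ⟨e, rfl⟩ := hm
    have e1 : (⟨((((p ^ j : ℕ) : ℤ) * e : ℤ) : ZMod (p ^ n)), hx⟩ : I) = (e : ZMod (p ^ n)) • (⟨_, hjI⟩ : I) := by
      refine Subtype.ext ?_
      rw [Submodule.coe_smul, smul_eq_mul]
      simp [mul_comm]
    rw [LinearMap.toSpanSingleton_apply, e1, LinearMap.map_smul]
    change _ = _ • g.toAddMonoidHom _
    rw [hz, Int.cast_mul, Int.cast_natCast, mul_smul, smul_comm,
      Nat.cast_smul_eq_nsmul]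
  obtain ⟨h, hh⟩ := hB.extension_property
    (AddMonoidHom.toZModLinearMap (p ^ n) T.subtype) (by exact Subtype.val_injective)
    (AddMonoidHom.toZModLinearMap (p ^ n) χ)
  exact ⟨h.toAddMonoidHom, fun t => LinearMap.congr_fun hh t⟩

/-- homomorphisms to truncated Witt vectors separate cosets -/
theorem exists_separating {P : Type u} [AddCommGroup P] (hP : ∀ x : P, p ^ n • x = 0) (T : AddSubgroup P) {q : P}
    (hq : q ∉ T) : ∃ χ : P →+ TruncatedWittVector p n k, (∀ t ∈ T, χ t = 0) ∧ χ q ≠ 0 := by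
  classical
  let π := QuotientAddGroup.mk' T
  have hP' : ∀ x : P ⧸ T, p ^ n • x = 0 := fun x => by
    obtain ⟨y, rfl⟩ := QuotientAddGroup.mk'_surjective T x
    rw [← map_nsmul, hP, map_zero]
  have hq0 : π q ≠ 0 := fun h => hq ((QuotientAddGroup.eq_zero_iff q).mp h)
  obtain ⟨j, hj, hord⟩ := (Nat.dvd_prime_pow hp.out).mp (addOrderOf_dvd_of_nsmul_eq_zero (hP' (π q)))
  have hj0 : j ≠ 0 := fun h => hq0 (AddMonoid.addOrderOf_eq_one_iff.mp (by rw [hord, h, pow_zero]))
  let w : TruncatedWittVector p n k := WittVector.truncate n ((p : WittVector p k) ^ (n - j))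
  have hw : p ^ j • w = 0 := by
    rw [← map_nsmul, nsmul_eq_mul, Nat.cast_pow, ← pow_add, Nat.add_sub_cancel' hj, ← Nat.cast_pow,
      ← nsmul_one (A := WittVector p k), map_nsmul]
    exact pow_nsmul_eq_zero le_rfl _
  have hw0 : w ≠ 0 := fun h => by
    have := congrArg (TruncatedWittVector.coeff (⟨n - j, by omega⟩ : Fin n)) h
    rw [WittVector.coeff_truncate, TruncatedWittVector.coeff_zero] at this
    simp [WittVector.coeff_p_pow] at this
  let m : ℤ →+ P ⧸ T := zmultiplesHom _ (π q)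
  let Z := m.range
  obtain ⟨χ, hχ⟩ := exists_extension (k := k) hP' Z
    (AddMonoidHom.liftOfSurjective m.rangeRestrict m.rangeRestrict_surjective
      ⟨zmultiplesHom _ w, fun z hz => by
        rw [AddMonoidHom.mem_ker] at hz
        have hz' : z • π q = 0 := congrArg Subtype.val hz
        rw [← addOrderOf_dvd_iff_zsmul_eq_zero, hord] at hz'
        obtain ⟨e, rfl⟩ := hz'
        rw [AddMonoidHom.mem_ker, zmultiplesHom_apply, mul_comm, mul_smul, natCast_zsmul, hw, smul_zero]⟩)
  refine ⟨χ.comp π, fun t ht => ?_, fun h => hw0 ?_⟩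
  · rw [AddMonoidHom.comp_apply, show π t = 0 from (QuotientAddGroup.eq_zero_iff t).mpr ht, map_zero]
  · rw [AddMonoidHom.comp_apply, show π q = ((m.rangeRestrict 1 : Z) : P ⧸ T) from (one_zsmul (π q)).symm, hχ] at h
    rwa [AddMonoidHom.liftOfRightInverse_comp_apply, zmultiplesHom_apply, one_zsmul] at h

end Groth.Agent.H27PGrp
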