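import Groth.Agent.H27PGrp.Step
import Groth.Agent.H27PGrp.Inject
import Mathlib

/-!
# Smooth commutative groups killed by a power of `p` embed into products of Witt groups
-/

set_option autoImplicit false
set_option linter.style.haveILetI false
universe u

noncomputable section

namespace Groth.Agent.H27PGrp

variable {p : ℕ} [hp : Fact p.Prime] {k : Type u} [Field k] [IsAlgClosed k] [CharP k p] {A : Type u} [CommRing A]
  [Algebra k A] [Algebra.Smooth k A]

theorem isIdempotentElem_eq_one_of_pt_ne_zero {e : A} (he : IsIdempotentElem e) {φ : A →ₐ[k] k} (h : φ e ≠ 0) :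
    φ e = 1 :=
  (IsIdempotentElem.iff_eq_zero_or_one.mp (he.map φ)).resolve_left h

theorem smooth_quotient_idempotent {e : A} (he : IsIdempotentElem e) :
    Algebra.Smooth k (A ⧸ Ideal.span {1 - e}) := by
  haveI : Algebra.FinitePresentation k (A ⧸ Ideal.span {1 - e}) :=
    Algebra.FinitePresentation.quotient ⟨{1 - e}, by simp⟩
  refine ⟨Algebra.FormallySmooth.of_comp_surjective fun C _ _ I hI φ => ?_, inferInstance⟩
  obtain ⟨g, hg⟩ := Algebra.FormallySmooth.comp_surjective k A I hI (φ.comp (Ideal.Quotient.mkₐ k _))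
  have hδ : g (1 - e) ∈ I := by
    rw [← Ideal.Quotient.eq_zero_iff_mem]
    refine (AlgHom.congr_fun hg (1 - e)).trans ?_
    change φ (Ideal.Quotient.mk _ (1 - e)) = 0
    rw [Ideal.Quotient.eq_zero_iff_mem.mpr (Ideal.mem_span_singleton_self _), map_zero]
  have h0 : g (1 - e) = 0 := by
    have h2 := Ideal.mul_mem_mul hδ hδ
    rwa [← pow_two I, hI, Ideal.mem_bot, ← map_mul, he.one_sub.eq] at h2
  refine ⟨Ideal.Quotient.liftₐ _ g fun a ha => ?_, Ideal.Quotient.algHom_ext _ hg⟩
  obtain ⟨c, rfl⟩ := Ideal.mem_span_singleton'.mp ha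
  rw [map_mul, h0, mul_zero]

namespace PGrp

variable (G : PGrp k A)

omit hp [CharP k p] in
theorem exists_minimal_idempotent :
    ∃ e : A, IsIdempotentElem e ∧ G.pt 0 e = 1 ∧
      ∀ e' : A, IsIdempotentElem e' → G.pt 0 e' = 1 → e * e' = e := by
  haveI := isNoetherianRing_of_smooth k A
  obtain ⟨J, ⟨e, he, he0, rfl⟩, hmax⟩ := set_has_maximal_iff_noetherian.mpr inferInstance
    {J : Ideal A | ∃ e, IsIdempotentElem e ∧ G.pt 0 e = 1 ∧ J = Ideal.span {1 - e}}
    ⟨_, 1, IsIdempotentElem.one, map_one _, rfl⟩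
  refine ⟨e, he, he0, fun e' he' he'0 => ?_⟩
  have hid : IsIdempotentElem (e * e') := he.mul he'
  have hle : Ideal.span {1 - e} ≤ Ideal.span {1 - e * e'} := Ideal.span_singleton_le_span_singleton.mpr
    ⟨1 - e, by linear_combination (-e') * he.eq⟩
  have heq := eq_of_le_of_not_lt hle (hmax _ ⟨e * e', hid, by rw [map_mul, he0, he'0, mul_one], rfl⟩)
  obtain ⟨c, hc⟩ := Ideal.mem_span_singleton'.mp (heq.symm ▸ Ideal.mem_span_singleton_self (1 - e * e'))
  linear_combination (c - e') * he.eq + e * hc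

/-- translates of a minimal idempotent -/
theorem isIdempotentElem_R {e : A} (he : IsIdempotentElem e) (x : G.P) : IsIdempotentElem (G.R x e) := he.map (G.R x)

omit [Algebra.Smooth k A] [IsAlgClosed k] in
theorem IsAddW.coeff_shift_mem {m M : ℕ} (h : m ≤ M) (v : TruncatedWittVector p m A) (j : Fin m) :
    v.coeff j ∈ Set.range fun i => (WittGrp.shift p h v).coeff i :=
  ⟨⟨(j : ℕ) + (M - m), by omega⟩, by
    change (WittGrp.shift p h v).coeff _ = _
    rw [WittGrp.coeff_shift, dif_pos (by simp)]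
    exact congrArg (fun i => v.coeff i) (Fin.ext (by simp))⟩

omit [Algebra.Smooth k A] [IsAlgClosed k] [CharP k p] in
theorem emb_of_finite {ι : Type*} [Finite ι] (nn : ι → ℕ) (v : ∀ i, TruncatedWittVector p (nn i) A)
    (hv : ∀ i, G.IsAddW (v i)) (hgen : Algebra.adjoin k (⋃ i, Set.range fun j => (v i).coeff j) = ⊤) : Emb p G := by
  obtain ⟨r, ⟨e⟩⟩ := Finite.exists_equiv_fin ι
  refine ⟨r, fun i => nn (e.symm i), fun i => v (e.symm i), fun i => hv _, ?_⟩
  rwa [e.symm.surjective.iUnion_comp (fun i => Set.range fun j => (v i).coeff j)]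

/-- generators on the component of the origin give generators -/
theorem emb_of_component [PerfectRing k p] (N : ℕ) (hN : ∀ x : G.P, p ^ N • x = 0) {e : A} (he : IsIdempotentElem e)
    (S : AddSubgroup G.P) (hS : ∀ x, x ∈ S ↔ ∀ a, Ideal.Quotient.mkₐ k (Ideal.span {1 - e}) a = 0 → G.pt x a = 0)
    (hemb : Emb p (G.sub (Ideal.Quotient.mkₐ k (Ideal.span {1 - e})) (Ideal.Quotient.mkₐ_surjective k _) S hS)) :
    Emb p G := by
  classical
  obtain ⟨r, nn, v, hv, hgen⟩ := hemb
  let π := Ideal.Quotient.mkₐ k (Ideal.span {1 - e})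
  have hπs : Function.Surjective π := Ideal.Quotient.mkₐ_surjective k _
  have hT : ∀ x, x ∈ S ↔ G.pt x e = 1 := fun x => by
    rw [hS]
    refine ⟨fun h => ?_, fun h a ha => ?_⟩
    · have h1 := h (1 - e) (Ideal.Quotient.eq_zero_iff_mem.mpr (Ideal.mem_span_singleton_self _))
      rw [map_sub, map_one, sub_eq_zero] at h1
      exact h1.symm
    · obtain ⟨c, rfl⟩ := Ideal.mem_span_singleton'.mp (Ideal.Quotient.eq_zero_iff_mem.mp ha)
      rw [map_mul, map_sub, map_one, h, sub_self, mul_zero]
  have he01 : ∀ x, x ∉ S → G.pt x e = 0 := fun x hx =>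
    by_contra fun h => hx ((hT x).mpr (isIdempotentElem_eq_one_of_pt_ne_zero he h))
  -- finitely many cosets
  obtain ⟨F₀, hF₀⟩ : ∃ F₀ : Finset G.P, ∀ y, ∃ q ∈ F₀, y - q ∈ S := by
    haveI := isNoetherianRing_of_smooth k A
    let J : Ideal A := Ideal.span (Set.range fun x => G.R (-x) e)
    obtain ⟨t, ht, hJt⟩ := Submodule.fg_span_iff_fg_span_finset_subset _ |>.mp (IsNoetherian.noetherian J)
    choose f hf using fun a : t => ht a.2
    refine ⟨Finset.univ.image f, fun y => ?_⟩
    by_contra hne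
    push Not at hne
    have h0 : J ≤ RingHom.ker (G.pt y) := by
      change Submodule.span A _ ≤ _
      rw [hJt]
      refine Submodule.span_le.mpr fun a ha => ?_
      rw [SetLike.mem_coe, RingHom.mem_ker, show a = G.R (-f ⟨a, ha⟩) e from (hf ⟨a, ha⟩).symm]
      change G.pt y (G.R (-f ⟨a, ha⟩) e) = 0
      rw [pt_R, ← sub_eq_add_neg]
      exact he01 _ (hne _ (Finset.mem_image_of_mem _ (Finset.mem_univ _)))
    have h1 : G.pt y (G.R (-y) e) = 0 := h0 (Ideal.subset_span ⟨y, rfl⟩)
    rw [pt_R, add_neg_cancel, (hT 0).mp (zero_mem S)] at h1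
    exact one_ne_zero h1
  let F : Finset (G.P ⧸ S) := F₀.image (QuotientAddGroup.mk' S)
  haveI : Finite (G.P ⧸ S) := by
    refine Finite.of_surjective (α := F₀) (fun q => QuotientAddGroup.mk' S q.1) fun z => ?_
    obtain ⟨y, rfl⟩ := QuotientAddGroup.mk'_surjective S z
    obtain ⟨q, hq, hyq⟩ := hF₀ y
    exact ⟨⟨q, hq⟩, ((QuotientAddGroup.mk'_eq_mk' S).mpr ⟨y - q, hyq, add_sub_cancel q y⟩)⟩
  letI : Fintype (G.P ⧸ S) := Fintype.ofFinite _
  let rep : G.P ⧸ S → G.P := Function.surjInv (QuotientAddGroup.mk'_surjective S)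
  have hrep : ∀ z, QuotientAddGroup.mk' S (rep z) = z := Function.surjInv_eq _
  let ec : G.P ⧸ S → A := fun z => G.R (-rep z) e
  have hec : ∀ z y, G.pt y (ec z) = if QuotientAddGroup.mk' S y = z then 1 else 0 := fun z y => by
    simp only [ec, pt_R, ← sub_eq_add_neg]
    by_cases h : y - rep z ∈ S
    · rw [(hT _).mp h, if_pos]
      rw [← hrep z]
      exact ((QuotientAddGroup.mk'_eq_mk' S).mpr ⟨y - rep z, h, add_sub_cancel _ y⟩).symm
    · rw [he01 _ h, if_neg]
      intro heq
      rw [← hrep z] at heq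
      refine h ?_
      obtain ⟨s, hs, hys⟩ := (QuotientAddGroup.mk'_eq_mk' S).mp heq.symm
      rwa [← hys, add_sub_cancel_left]
  -- uniform length
  obtain ⟨M, hMN, hM⟩ : ∃ M, N ≤ M ∧ ∀ i, nn i ≤ M :=
    ⟨max N (Finset.univ.sup nn), le_max_left _ _, fun i => (Finset.le_sup (Finset.mem_univ i)).trans (le_max_right _ _)⟩
  have hM' : ∀ x : G.P, p ^ M • x = 0 := fun x => by
    rw [← Nat.sub_add_cancel hMN, pow_add, mul_nsmul', hN, nsmul_zero]
  -- a vector with given values on all cosets
  let glue : (G.P ⧸ S → TruncatedWittVector p M A) → TruncatedWittVector p M A := fun w =>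
    TruncatedWittVector.mk p fun j => ∑ z, ec z * (w z).coeff j
  have hglue : ∀ (w : G.P ⧸ S → TruncatedWittVector p M A) (y : G.P),
      tm (G.pt y) (glue w) = tm (G.pt y) (w (QuotientAddGroup.mk' S y)) := fun w y =>
    TruncatedWittVector.ext fun j => by
      simp [glue, coeff_tm, TruncatedWittVector.coeff_mk, hec, Finset.sum_ite_eq]
  let cst : TruncatedWittVector p M k → TruncatedWittVector p M A := WittGrp.truncMap p M (algebraMap k A)
  have hcst : ∀ y c, tm (G.pt y) (cst c) = c := fun y c => TruncatedWittVector.ext fun j => by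
    simp [cst, coeff_tm]
  -- the lifts and their extensions
  let a : ∀ i, TruncatedWittVector p M A := fun i =>
    TruncatedWittVector.mk p fun j => Function.surjInv hπs ((WittGrp.shift p (hM i) (v i)).coeff j)
  have ha : ∀ i, tm π (a i) = WittGrp.shift p (hM i) (v i) := fun i => TruncatedWittVector.ext fun j => by
    rw [coeff_tm, TruncatedWittVector.coeff_mk, Function.surjInv_eq hπs]
  have haS : ∀ i (x : S), tm ((G.sub π hπs S hS).pt x) (WittGrp.shift p (hM i) (v i)) = tm (G.pt x.1) (a i) :=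
    fun i x => by
      rw [← ha i, tm_comp π]
      exact TruncatedWittVector.ext fun j => by
        rw [coeff_tm, coeff_tm]
        exact G.sub_pt π hπs S hS x _
  have hχ : ∀ i, ∃ χ : G.P →+ TruncatedWittVector p M k, ∀ t : S, χ t = tm (G.pt t.1) (a i) := fun i =>
    exists_extension hM' S (AddMonoidHom.mk' (fun t : S => tm (G.pt t.1) (a i)) fun s t => by
      simp only [← haS]
      exact ((hv i).shift _ (hM i)) s t)
  choose χ hχ using hχ
  have hsep : ∀ z : G.P ⧸ S, ∃ χ : G.P →+ TruncatedWittVector p M k,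
      (∀ t ∈ S, χ t = 0) ∧ (z ≠ 0 → χ (rep z) ≠ 0) := by
    intro z
    by_cases hz : z = 0
    · exact ⟨0, fun _ _ => rfl, fun h => absurd hz h⟩
    · obtain ⟨χ, h1, h2⟩ := exists_separating (k := k) hM' S (q := rep z) fun h => hz (by
        rw [← hrep z]; exact (QuotientAddGroup.eq_zero_iff _).mpr h)
      exact ⟨χ, h1, fun _ => h2⟩
  choose sχ hsχ0 hsχ using hsep
  let V : Fin r ⊕ (G.P ⧸ S) → TruncatedWittVector p M A := Sum.elim
    (fun i => glue fun z => cst (χ i (rep z)) + tm (G.R (-rep z)) (a i))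
    (fun z₀ => glue fun z => cst (sχ z₀ (rep z)))
  have hrepmem : ∀ y, y - rep (QuotientAddGroup.mk' S y) ∈ S := fun y => by
    obtain ⟨s, hs, hys⟩ := (QuotientAddGroup.mk'_eq_mk' S).mp (hrep (QuotientAddGroup.mk' S y))
    rwa [sub_eq_iff_eq_add'.mpr hys.symm]
  have hV : ∀ i y, tm (G.pt y) (V i) = Sum.elim (fun i => χ i y) (fun z₀ => sχ z₀ y) i := by
    rintro (i | z₀) y
    · simp only [V, Sum.elim_inl, hglue, map_add, hcst, tm_comp]
      rw [show tm ((G.pt y).comp (G.R (-rep (QuotientAddGroup.mk' S y)))) (a i) =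
          tm (G.pt (y - rep (QuotientAddGroup.mk' S y))) (a i) from TruncatedWittVector.ext fun j => by
        rw [coeff_tm, coeff_tm, AlgHom.comp_apply, pt_R, sub_eq_add_neg]]
      rw [← hχ i ⟨_, hrepmem y⟩, ← map_add]
      exact congrArg (χ i) (add_sub_cancel _ _)
    · simp only [V, Sum.elim_inr, hglue, hcst]
      exact (sub_eq_zero.mp (by rw [← map_sub]; exact hsχ0 z₀ _ (hrepmem y))).symm
  refine G.emb_of_finite (fun _ : Fin r ⊕ (G.P ⧸ S) => M) V (fun i x y => ?_) ?_
  · rw [hV, hV, hV]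
    cases i <;> simp
  set U := Algebra.adjoin k (⋃ i, Set.range fun j => (V i).coeff j) with hUdef
  have hVU : ∀ i j, (V i).coeff j ∈ U := fun i j => Algebra.subset_adjoin (Set.mem_iUnion.mpr ⟨i, j, rfl⟩)
  -- indicators of cosets
  have hecU : ∀ z, ec z ∈ U := by
    intro z
    have hpair : ∀ z', z' ≠ z → ∃ u ∈ U, (∀ y, QuotientAddGroup.mk' S y = z → G.pt y u = 1) ∧
        ∀ y, QuotientAddGroup.mk' S y = z' → G.pt y u = 0 := by
      intro z' hz'
      let d := z - z'
      have hd : d ≠ 0 := sub_ne_zero.mpr (Ne.symm hz')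
      obtain ⟨j, hj⟩ : ∃ j, (sχ d (rep d)).coeff j ≠ 0 := by
        by_contra h
        push Not at h
        exact hsχ d hd (TruncatedWittVector.ext fun j => by rw [h, TruncatedWittVector.coeff_zero])
      have hval : ∀ y z₁, QuotientAddGroup.mk' S y = z₁ → sχ d y = sχ d (rep z₁) := fun y z₁ hy => by
        exact sub_eq_zero.mp (by rw [← map_sub]; exact hsχ0 d _ (hy ▸ hrepmem y))
      have hne : (sχ d (rep z)).coeff j ≠ (sχ d (rep z')).coeff j ∨ ∃ j', (sχ d (rep z)).coeff j' ≠ (sχ d (rep z')).coeff j' := by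
        right
        by_contra h
        push Not at h
        refine hsχ d hd ?_
        have h1 : sχ d (rep z) = sχ d (rep z') := TruncatedWittVector.ext h
        rw [← hval (rep z - rep z') d (by rw [map_sub, hrep, hrep]), map_sub, h1, sub_self]
      obtain ⟨j', hj'⟩ : ∃ j', (sχ d (rep z)).coeff j' ≠ (sχ d (rep z')).coeff j' := hne.elim (fun h => ⟨j, h⟩) id
      refine ⟨algebraMap k A ((sχ d (rep z)).coeff j' - (sχ d (rep z')).coeff j')⁻¹ *
        ((V (Sum.inr d)).coeff j' - algebraMap k A ((sχ d (rep z')).coeff j')),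
        mul_mem (Subalgebra.algebraMap_mem _ _) (sub_mem (hVU _ _) (Subalgebra.algebraMap_mem _ _)),
        fun y hy => ?_, fun y hy => ?_⟩
      · have := congrArg (TruncatedWittVector.coeff j') (hV (Sum.inr d) y)
        rw [coeff_tm, Sum.elim_inr, hval y z hy] at this
        simp [this, inv_mul_cancel₀ (sub_ne_zero.mpr hj')]
      · have := congrArg (TruncatedWittVector.coeff j') (hV (Sum.inr d) y)
        rw [coeff_tm, Sum.elim_inr, hval y z' hy] at this
        simp [this]
    choose u huU hu1 hu0 using hpair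
    rw [show ec z = ∏ z' : {z' // z' ≠ z}, u z'.1 z'.2 from G.ext_pt fun y => by
      rw [hec, map_prod]
      split_ifs with h
      · exact (Finset.prod_eq_one fun z' _ => hu1 z'.1 z'.2 y h).symm
      · exact (Finset.prod_eq_zero (Finset.mem_univ ⟨_, h⟩) (hu0 _ h y rfl)).symm]
    exact prod_mem fun z' _ => huU z'.1 z'.2
  -- everything is generated
  rw [eq_top_iff]
  intro b _
  have hsum : b = ∑ z, ec z * b := G.ext_pt fun y => by
    simp [hec, Finset.sum_ite_eq]
  rw [hsum]
  refine sum_mem fun z _ => ?_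
  let W : Subalgebra k A :=
    { carrier := {c | ec z * G.R (-rep z) c ∈ U}
      mul_mem' := fun {c d} hc hd => by
        change ec z * G.R (-rep z) (c * d) ∈ U
        have h2 : ec z * ec z = ec z := (isIdempotentElem_R G he (-rep z)).eq
        rw [map_mul, ← h2, mul_mul_mul_comm]
        exact mul_mem hc hd
      add_mem' := fun {c d} hc hd => by
        change ec z * G.R (-rep z) (c + d) ∈ U
        rw [map_add, mul_add]
        exact add_mem hc hd
      algebraMap_mem' := fun c => by
        change ec z * G.R (-rep z) (algebraMap k A c) ∈ U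
        rw [AlgHom.commutes]
        exact mul_mem (hecU z) (Subalgebra.algebraMap_mem _ _) }
  have haW : ∀ i j, (a i).coeff j ∈ W := by
    intro i j
    change ec z * G.R (-rep z) ((a i).coeff j) ∈ U
    have hd : V (Sum.inl i) - cst (χ i (rep z)) ∈ (WittGrp.truncMap p M U.val.toRingHom).range :=
      sub_mem ((mem_range_tm_iff U _).mpr (hVU _)) ((mem_range_tm_iff U _).mpr fun j => by
        simp only [cst, WittGrp.coeff_truncMap]
        exact Subalgebra.algebraMap_mem _ _)
    rw [show ec z * G.R (-rep z) ((a i).coeff j) = ec z * (V (Sum.inl i) - cst (χ i (rep z))).coeff j from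
      G.ext_pt fun y => by
        rw [map_mul, map_mul, hec, pt_R]
        split_ifs with h
        · congr 1
          have h3 : tm (G.pt (y + -rep z)) (a i) = tm (G.pt y) (V (Sum.inl i) - cst (χ i (rep z))) := by
            rw [map_sub, hV, hcst, Sum.elim_inl, ← hχ i ⟨y + -rep z, by rw [← h, ← sub_eq_add_neg]; exact hrepmem y⟩,
              ← map_sub]
            exact congrArg (χ i) (sub_eq_add_neg y (rep z)).symm
          rw [← coeff_tm (G.pt (y + -rep z)), ← coeff_tm (G.pt y), h3]
        · rw [zero_mul, zero_mul]]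
    exact mul_mem (hecU z) ((mem_range_tm_iff U _).mp hd j)
  obtain ⟨c, hc, hcb⟩ : ∃ c ∈ W, π c = π (G.R (rep z) b) := by
    have hgen' : (Algebra.adjoin k (⋃ i, Set.range fun j => (a i).coeff j)).map π = ⊤ := by
      rw [eq_top_iff, ← hgen, AlgHom.map_adjoin]
      refine Algebra.adjoin_le fun c hc => ?_
      obtain ⟨i, j, rfl⟩ := Set.mem_iUnion.mp hc
      refine Algebra.subset_adjoin ?_
      obtain ⟨j', hj'⟩ := IsAddW.coeff_shift_mem (hM i) (v i) j
      exact ⟨(a i).coeff j', Set.mem_iUnion.mpr ⟨i, j', rfl⟩, by rw [← coeff_tm π, ha i]; exact hj'⟩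
    obtain ⟨c, hc, hcb⟩ : π (G.R (rep z) b) ∈ (Algebra.adjoin k (⋃ i, Set.range fun j => (a i).coeff j)).map π :=
      hgen'.symm ▸ Algebra.mem_top
    refine ⟨c, Algebra.adjoin_le ?_ hc, hcb⟩
    intro d hd
    obtain ⟨i, j, rfl⟩ := Set.mem_iUnion.mp hd
    exact haW i j
  rw [show ec z * b = ec z * G.R (-rep z) c from G.ext_pt fun y => by
    rw [map_mul, map_mul, hec, pt_R]
    split_ifs with h
    · congr 1
      have hmem : y + -rep z ∈ S := by rw [← h, ← sub_eq_add_neg]; exact hrepmem y
      have h4 := (hS _).mp hmem (c - G.R (rep z) b) (by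
        have h5 : π c = π (G.R (rep z) b) := hcb
        exact (map_sub π _ _).trans (sub_eq_zero.mpr h5))
      rw [map_sub, pt_R, neg_add_cancel_right, sub_eq_zero] at h4
      exact h4.symm
    · rw [zero_mul, zero_mul]]
  exact hc

/-- a smooth group killed by a power of `p` has generating Witt-vector valued additive functions -/
theorem emb [PerfectRing k p] (G : PGrp k A) (N : ℕ) (hN : ∀ x : G.P, p ^ N • x = 0) : Emb p G := by
  classical
  suffices h : ∀ (J : Ideal A) (A' : Type u) [CommRing A'] [Algebra k A'] [Algebra.Smooth k A'] (π : A →ₐ[k] A'),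
      Function.Surjective π → RingHom.ker π = J → ∀ G' : PGrp k A', (∀ x : G'.P, p ^ N • x = 0) → Emb p G' from
    h _ A (AlgHom.id k A) Function.surjective_id rfl G hN
  haveI := isNoetherianRing_of_smooth k A
  intro J
  induction J using IsWellFounded.induction (r := ((· > ·) : Ideal A → Ideal A → Prop)) with
  | ind J ih =>
  intro A' _ _ _ π₀ hπ₀ hJ G' hG'
  -- passing to a smaller subgroup
  have hsmall : ∀ (g : A'), g ≠ 0 → ∀ [Algebra.Smooth k (A' ⧸ Ideal.span {g})] (S : AddSubgroup G'.P)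
      (hS : ∀ x, x ∈ S ↔ ∀ a, Ideal.Quotient.mkₐ k (Ideal.span {g}) a = 0 → G'.pt x a = 0),
      Emb p (G'.sub (Ideal.Quotient.mkₐ k (Ideal.span {g})) (Ideal.Quotient.mkₐ_surjective k _) S hS) := by
    intro g hg _ S hS
    refine ih _ ?_ _ ((Ideal.Quotient.mkₐ k (Ideal.span {g})).comp π₀)
      ((Ideal.Quotient.mkₐ_surjective k _).comp hπ₀) rfl _ fun x => Subtype.ext (hG' _)
    rw [gt_iff_lt, ← hJ]
    refine lt_of_le_of_ne (fun a ha => ?_) fun h => hg ?_
    · rw [RingHom.mem_ker] at ha ⊢
      rw [AlgHom.comp_apply, ha, map_zero]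
    · obtain ⟨a, rfl⟩ := hπ₀ g
      have : a ∈ RingHom.ker ((Ideal.Quotient.mkₐ k (Ideal.span {π₀ a})).comp π₀) :=
        Ideal.Quotient.eq_zero_iff_mem.mpr (Ideal.mem_span_singleton_self _)
      rwa [← h, RingHom.mem_ker] at this
  by_cases hconst : ∀ a : A', a ∈ Submodule.span k ({1} : Set A')
  · refine ⟨0, Fin.elim0, fun i => i.elim0, fun i => i.elim0, eq_top_iff.mpr fun a _ => ?_⟩
    obtain ⟨c, rfl⟩ := Submodule.mem_span_singleton.mp (hconst a)
    exact Subalgebra.smul_mem _ (one_mem _) c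
  push Not at hconst
  obtain ⟨a₀, ha₀⟩ := hconst
  by_cases hconn : ∀ e : A', IsIdempotentElem e → e = 0 ∨ e = 1
  · obtain ⟨f₀, hf₀, hf₀0⟩ := G'.exists_isAdd p N hG' a₀ ha₀
    obtain ⟨f, hf, hf0, hfp⟩ := G'.exists_isAdd_not_pow p hp.out.two_le hconn hf₀ hf₀0 fun g hg x y =>
      frobenius_inj k p (by
        simp only [frobenius_def, add_pow_char, ← map_pow]
        exact hg x y)
    obtain ⟨D, hD⟩ := G'.exists_derivation p hf hfp
    haveI := smooth_quotient f D hD
    have hsurj := G'.exists_point_eq hf D hD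
    let S : AddSubgroup G'.P :=
      { carrier := {x | G'.pt x f = 0}
        add_mem' := fun {x y} hx hy => by simp only [Set.mem_setOf_eq] at *; rw [hf, hx, hy, add_zero]
        zero_mem' := hf.zero G'
        neg_mem' := fun {x} hx => by
          simp only [Set.mem_setOf_eq] at *
          have h := hf x (-x)
          rw [add_neg_cancel, hf.zero G', hx, zero_add] at h
          exact h.symm }
    have hker : ∀ a, Ideal.Quotient.mkₐ k (Ideal.span {f}) a = 0 ↔ f ∣ a := fun a =>
      Ideal.Quotient.eq_zero_iff_mem.trans Ideal.mem_span_singleton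
    have hS : ∀ x, x ∈ S ↔ ∀ a, Ideal.Quotient.mkₐ k (Ideal.span {f}) a = 0 → G'.pt x a = 0 := fun x => by
      refine ⟨fun (hx : G'.pt x f = 0) a ha => ?_, fun h => h f ((hker f).mpr dvd_rfl)⟩
      obtain ⟨c, rfl⟩ := (hker a).mp ha
      rw [map_mul, hx, zero_mul]
    letI := (Polynomial.aeval (R := k) f).toRingHom.toAlgebra
    haveI : IsScalarTower k (Polynomial k) A' := IsScalarTower.of_algebraMap_eq fun c => by
      change algebraMap k A' c = Polynomial.aeval f (Polynomial.C c)
      rw [Polynomial.aeval_C]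
    haveI := smooth_aeval f D hD
    exact G'.emb_of_emb_zeroSet (Polynomial.aeval_X f) hf hsurj _ (Ideal.Quotient.mkₐ_surjective k _) hker S hS
      (hsmall f hf0 S hS)
  · obtain ⟨e, he, he0, hmin⟩ := G'.exists_minimal_idempotent
    have he1 : e ≠ 1 := by
      intro h1
      push Not at hconn
      obtain ⟨e', he', h0, h1'⟩ := hconn
      by_cases h : G'.pt 0 e' = 0
      · have := hmin (1 - e') he'.one_sub (by rw [map_sub, map_one, h, sub_zero])
        rw [h1, one_mul, sub_eq_self] at this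
        exact h0 this
      · have := hmin e' he' (isIdempotentElem_eq_one_of_pt_ne_zero he' h)
        rw [h1, one_mul] at this
        exact h1' this
    haveI := smooth_quotient_idempotent (k := k) he
    have hadd : ∀ x y, G'.pt x e = 1 → G'.pt y e = 1 → G'.pt (x + y) e = 1 := by
      intro x y hx hy
      have h := congrArg (G'.pt x) (hmin (G'.R y e) (G'.isIdempotentElem_R he y) (by rw [pt_R, zero_add, hy]))
      rwa [map_mul, hx, one_mul, pt_R] at h
    let S : AddSubgroup G'.P :=
      { carrier := {x | G'.pt x e = 1}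
        add_mem' := fun {x y} hx hy => hadd x y hx hy
        zero_mem' := he0
        neg_mem' := fun {x} hx => by
          simp only [Set.mem_setOf_eq] at *
          have h := congrArg (G'.pt x) (hmin (G'.neg' e) (he.map G'.neg') (by rw [pt_neg', neg_zero, he0]))
          rwa [map_mul, hx, one_mul, pt_neg'] at h }
    have hS : ∀ x, x ∈ S ↔ ∀ a, Ideal.Quotient.mkₐ k (Ideal.span {1 - e}) a = 0 → G'.pt x a = 0 := fun x => by
      refine ⟨fun (hx : G'.pt x e = 1) a ha => ?_, fun h => ?_⟩
      · obtain ⟨c, rfl⟩ := Ideal.mem_span_singleton'.mp (Ideal.Quotient.eq_zero_iff_mem.mp ha)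
        rw [map_mul, map_sub, map_one, hx, sub_self, mul_zero]
      · have := h (1 - e) (Ideal.Quotient.eq_zero_iff_mem.mpr (Ideal.mem_span_singleton_self _))
        rw [map_sub, map_one, sub_eq_zero] at this
        exact this.symm
    exact G'.emb_of_component N hG' he S hS (hsmall (1 - e) (sub_ne_zero.mpr he1.symm) S hS)

end PGrp

end Groth.Agent.H27PGrp
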