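import Groth.Agent.H27PGrp.Basic
import Mathlib

/-!
# An additive function with nonzero differential is smooth
-/

set_option autoImplicit false
set_option linter.style.haveILetI false
universe u

open TensorProduct

noncomputable section

namespace Groth.Agent.H27PGrp

variable {k : Type u} [Field k] {A : Type u} [CommRing A] [Algebra k A]

/-- correcting a lift along a derivation -/
theorem exists_corrected_lift {C : Type u} [CommRing C] [Algebra k C] {I : Ideal C} (hI : I ^ 2 = ⊥)
    (g : A →ₐ[k] C) (D : Derivation k A A) {δ : C} (hδ : δ ∈ I) :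
    ∃ g' : A →ₐ[k] C, ∀ a, g' a = g a - δ * g (D a) := by
  have hδ2 : δ * δ = 0 := by
    have := Ideal.mul_mem_mul hδ hδ
    rw [← pow_two, ← pow_two, hI, Ideal.mem_bot] at this
    rwa [← pow_two]
  refine ⟨AlgHom.mk' ⟨⟨⟨fun a => g a - δ * g (D a), by simp⟩, fun a b => ?_⟩, by simp, fun a b => ?_⟩ fun c a => ?_,
    fun a => rfl⟩
  · change g (a * b) - δ * g (D (a * b)) = (g a - δ * g (D a)) * (g b - δ * g (D b))
    simp only [Derivation.leibniz, smul_eq_mul, map_add, map_mul]
    linear_combination (-(g (D a) * g (D b))) * hδ2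
  · change g (a + b) - δ * g (D (a + b)) = g a - δ * g (D a) + (g b - δ * g (D b))
    rw [map_add, map_add, map_add]; ring
  · change g (c • a) - δ * g (D (c • a)) = c • (g a - δ * g (D a))
    rw [map_smul, Derivation.map_smul, map_smul, Algebra.mul_smul_comm, smul_sub]

variable [Algebra.Smooth k A]

theorem formallySmooth_aeval (f : A) (D : Derivation k A A) (hD : D f = 1) :
    letI := (Polynomial.aeval (R := k) f).toRingHom.toAlgebra
    Algebra.FormallySmooth (Polynomial k) A := by
  letI := (Polynomial.aeval (R := k) f).toRingHom.toAlgebra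
  refine Algebra.FormallySmooth.of_comp_surjective fun C _ _ I hI φ => ?_
  letI : Algebra k C := ((algebraMap (Polynomial k) C).comp Polynomial.C).toAlgebra
  haveI : IsScalarTower k (Polynomial k) C := IsScalarTower.of_algebraMap_eq' rfl
  haveI : IsScalarTower k (Polynomial k) A := IsScalarTower.of_algebraMap_eq fun c => by
    change algebraMap k A c = Polynomial.aeval f (Polynomial.C c)
    rw [Polynomial.aeval_C]
  obtain ⟨g, hg⟩ := Algebra.FormallySmooth.comp_surjective k A I hI (φ.restrictScalars k)
  have hX : algebraMap (Polynomial k) A Polynomial.X = f := Polynomial.aeval_X f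
  let t : C := algebraMap (Polynomial k) C Polynomial.X
  have hδ : g f - t ∈ I := by
    rw [← Ideal.Quotient.eq_zero_iff_mem, map_sub, sub_eq_zero]
    have h1 := AlgHom.congr_fun hg f
    refine h1.trans ?_
    change φ f = _
    exact ((congrArg φ hX.symm).trans (φ.commutes _)).trans rfl
  obtain ⟨g', hg'⟩ := exists_corrected_lift hI g D hδ
  have hcomm : g'.toRingHom.comp (algebraMap (Polynomial k) A) = algebraMap (Polynomial k) C := by
    refine Polynomial.ringHom_ext (fun c => ?_) ?_
    · change g' (Polynomial.aeval f (Polynomial.C c)) = _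
      rw [Polynomial.aeval_C, AlgHom.commutes]
      rfl
    · change g' (algebraMap (Polynomial k) A Polynomial.X) = t
      rw [hX, hg', hD, map_one, mul_one, sub_sub_cancel]
  refine ⟨{ g'.toRingHom with commutes' := fun q => RingHom.congr_fun hcomm q }, AlgHom.ext fun a => ?_⟩
  change Ideal.Quotient.mk I (g' a) = φ a
  rw [hg', map_sub, map_mul, Ideal.Quotient.eq_zero_iff_mem.mpr hδ, zero_mul, sub_zero]
  exact AlgHom.congr_fun hg a

theorem smooth_aeval (f : A) (D : Derivation k A A) (hD : D f = 1) :
    letI := (Polynomial.aeval (R := k) f).toRingHom.toAlgebra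
    Algebra.Smooth (Polynomial k) A := by
  letI := (Polynomial.aeval (R := k) f).toRingHom.toAlgebra
  haveI : IsScalarTower k (Polynomial k) A := IsScalarTower.of_algebraMap_eq fun c => by
    change algebraMap k A c = Polynomial.aeval f (Polynomial.C c)
    rw [Polynomial.aeval_C]
  haveI := formallySmooth_aeval f D hD
  haveI : Algebra.FinitePresentation (Polynomial k) A :=
    Algebra.FinitePresentation.of_restrict_scalars_finitePresentation k (Polynomial k) A
  exact ⟨inferInstance, inferInstance⟩

theorem smooth_quotient (f : A) (D : Derivation k A A) (hD : D f = 1) :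
    Algebra.Smooth k (A ⧸ Ideal.span {f}) := by
  haveI : Algebra.FinitePresentation k (A ⧸ Ideal.span {f}) :=
    Algebra.FinitePresentation.quotient ⟨{f}, by simp⟩
  refine ⟨Algebra.FormallySmooth.of_comp_surjective fun C _ _ I hI φ => ?_, inferInstance⟩
  obtain ⟨g, hg⟩ := Algebra.FormallySmooth.comp_surjective k A I hI (φ.comp (Ideal.Quotient.mkₐ k _))
  have hδ : g f ∈ I := by
    rw [← Ideal.Quotient.eq_zero_iff_mem]
    refine (AlgHom.congr_fun hg f).trans ?_
    change φ (Ideal.Quotient.mk _ f) = 0
    rw [Ideal.Quotient.eq_zero_iff_mem.mpr (Ideal.mem_span_singleton_self f), map_zero]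
  obtain ⟨g', hg'⟩ := exists_corrected_lift hI g D hδ
  have hker : ∀ a ∈ Ideal.span {f}, g' a = 0 := by
    intro a ha
    obtain ⟨c, rfl⟩ := Ideal.mem_span_singleton'.mp ha
    rw [map_mul, hg' f, hD, map_one, mul_one, sub_self, mul_zero]
  refine ⟨Ideal.Quotient.liftₐ _ g' hker, Ideal.Quotient.algHom_ext _ (AlgHom.ext fun a => ?_)⟩
  change Ideal.Quotient.mk I (g' a) = φ (Ideal.Quotient.mk _ a)
  rw [hg', map_sub, map_mul, Ideal.Quotient.eq_zero_iff_mem.mpr hδ, zero_mul, sub_zero]
  exact AlgHom.congr_fun hg a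

namespace PGrp

variable [IsAlgClosed k] (G : PGrp k A)

theorem exists_derivation (p : ℕ) [Fact p.Prime] [CharP k p] {f : A} (hf : G.IsAdd f) (hfp : ∀ a, f ≠ a ^ p) :
    ∃ D : Derivation k A A, D f = 1 := by
  haveI : Nontrivial A := (G.pt 0).toRingHom.domain_nontrivial
  haveI : CharP A p := charP_of_injective_algebraMap (algebraMap k A).injective p
  have hDf : KaehlerDifferential.D k A f ≠ 0 := fun h => by
    obtain ⟨a, ha⟩ := exists_pow_of_smooth (p := p) (k := k) f h
    exact hfp a ha
  obtain ⟨l, hl⟩ : ∃ l : Module.Dual A Ω[A⁄k], l (KaehlerDifferential.D k A f) ≠ 0 := by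
    by_contra hne
    push Not at hne
    exact hDf ((Module.forall_dual_apply_eq_zero_iff A _).mp hne)
  let δ : Derivation k A A := l.compDer (KaehlerDifferential.D k A)
  obtain ⟨x₀, hx₀⟩ : ∃ x₀, G.pt x₀ (δ f) ≠ 0 := by
    by_contra hne
    push Not at hne
    exact hl (G.ext_pt fun x => by rw [map_zero]; exact hne x)
  have hex : ∀ a : A, ∃ a' : A, ∀ z, G.pt z a' = G.pt x₀ (δ (G.R (z - x₀) a)) := by
    intro a
    obtain ⟨n, b, c, h⟩ := G.decomp a
    refine ⟨G.R (-x₀) (∑ i, G.pt x₀ (δ (b i)) • c i), fun z => ?_⟩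
    have e : G.R (z - x₀) a = ∑ i, G.pt (z - x₀) (c i) • b i :=
      G.ext_pt fun x => by simp [h, mul_comm]
    rw [e, pt_R, sub_eq_add_neg]
    simp [mul_comm]
  choose D hD using hex
  let D' : Derivation k A A := Derivation.mk'
    { toFun := D
      map_add' := fun a b => G.ext_pt fun z => by simp only [hD, map_add]
      map_smul' := fun c a => G.ext_pt fun z => by
        simp only [hD, map_smul, Derivation.map_smul, RingHom.id_apply] }
    fun a b => G.ext_pt fun z => by
      simp only [LinearMap.coe_mk, AddHom.coe_mk, smul_eq_mul, map_add, map_mul, hD, Derivation.leibniz, pt_R]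
      rw [add_sub_cancel]
  have hD'f : D' f = algebraMap k A (G.pt x₀ (δ f)) := G.ext_pt fun z => by
    refine (hD f z).trans ?_
    rw [hf.R_eq, map_add δ, Derivation.map_algebraMap, add_zero, AlgHom.commutes]
    rfl
  refine ⟨(G.pt x₀ (δ f))⁻¹ • D', ?_⟩
  rw [Derivation.smul_apply, hD'f, Algebra.smul_def, ← map_mul, inv_mul_cancel₀ hx₀, map_one]

/-- an additive function with a derivation taking the value one takes every value -/
theorem exists_point_eq {f : A} (hf : G.IsAdd f) (D : Derivation k A A) (hD : D f = 1) (c : k) :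
    ∃ x, G.pt x f = c := by
  classical
  letI := (Polynomial.aeval (R := k) f).toRingHom.toAlgebra
  haveI := smooth_aeval f D hD
  haveI : Module.Flat (Polynomial k) A := Algebra.Smooth.flat _ _
  haveI : IsScalarTower k (Polynomial k) A := IsScalarTower.of_algebraMap_eq fun c => by
    change algebraMap k A c = Polynomial.aeval f (Polynomial.C c)
    rw [Polynomial.aeval_C]
  have hopen := PrimeSpectrum.isOpenMap_comap_of_hasGoingDown_of_finitePresentation
    (R := Polynomial k) (S := A)
  let P₀ : PrimeSpectrum A := ⟨RingHom.ker (G.pt 0).toRingHom, RingHom.ker_isPrime _⟩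
  obtain ⟨_, ⟨q, rfl⟩, hqP, hqsub⟩ := PrimeSpectrum.isTopologicalBasis_basic_opens.exists_subset_of_mem_open
    (Set.mem_range_self P₀ : PrimeSpectrum.comap (algebraMap (Polynomial k) A) P₀ ∈ _) hopen.isOpen_range
  have hq0 : q ≠ 0 := fun h => by
    change (PrimeSpectrum.comap (algebraMap (Polynomial k) A) P₀) ∈ PrimeSpectrum.basicOpen q at hqP
    rw [h, PrimeSpectrum.basicOpen_zero] at hqP
    exact hqP
  have key : ∀ c : k, q.eval c ≠ 0 → ∃ x, G.pt x f = c := by
    intro c hc
    let ec : Polynomial k →+* k := Polynomial.evalRingHom c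
    have hmax : (RingHom.ker ec).IsMaximal :=
      RingHom.ker_isMaximal_of_surjective ec fun d => ⟨Polynomial.C d, by simp [ec]⟩
    obtain ⟨Q, hQ⟩ := hqsub (show (⟨RingHom.ker ec, hmax.isPrime⟩ : PrimeSpectrum (Polynomial k)) ∈ (PrimeSpectrum.basicOpen q : Set _) from
      fun h => hc (by simpa [ec] using h))
    obtain ⟨m, hm, hle⟩ := Ideal.exists_le_maximal Q.asIdeal Q.isPrime.ne_top
    haveI := hm
    letI : Field (A ⧸ m) := Ideal.Quotient.field m
    haveI : Module.Finite k (A ⧸ m) := finite_of_finite_type_of_isJacobsonRing k (A ⧸ m)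
    haveI : Algebra.IsIntegral k (A ⧸ m) := Algebra.IsIntegral.of_finite k _
    let e : k ≃ₐ[k] A ⧸ m := AlgEquiv.ofBijective (Algebra.ofId k (A ⧸ m))
      (IsAlgClosed.algebraMap_bijective_of_isIntegral)
    refine ⟨G.pt.symm (e.symm.toAlgHom.comp (Ideal.Quotient.mkₐ k m)), ?_⟩
    rw [Equiv.apply_symm_apply]
    have hmem : Polynomial.X - Polynomial.C c ∈ (PrimeSpectrum.comap (algebraMap (Polynomial k) A) Q).asIdeal := by
      rw [hQ]
      simp [ec]
    have hfm : f - algebraMap k A c ∈ m := by
      refine hle ?_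
      have h2 : algebraMap (Polynomial k) A (Polynomial.X - Polynomial.C c) ∈ Q.asIdeal := hmem
      rwa [show algebraMap (Polynomial k) A (Polynomial.X - Polynomial.C c) = f - algebraMap k A c by
        change Polynomial.aeval f (Polynomial.X - Polynomial.C c) = _; simp] at h2
    change e.symm (Ideal.Quotient.mk m f) = c
    rw [Ideal.Quotient.eq.mpr hfm]
    exact e.symm_apply_eq.mpr rfl
  let bad : Finset k := q.roots.toFinset ∪ q.roots.toFinset.image (fun r => c - r)
  obtain ⟨d, hd⟩ := Infinite.exists_notMem_finset bad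
  simp only [bad, Finset.mem_union, Finset.mem_image, Multiset.mem_toFinset, Polynomial.mem_roots hq0,
    Polynomial.IsRoot.def, not_or, not_exists, not_and] at hd
  obtain ⟨x, hx⟩ := key d hd.1
  obtain ⟨y, hy⟩ := key (c - d) fun h => hd.2 (c - d) h (sub_sub_cancel c d)
  exact ⟨x + y, by rw [hf, hx, hy, add_sub_cancel]⟩

end PGrp

end Groth.Agent.H27PGrp
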