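import Groth.Agent.H27PGrp.Deriv
import Groth.Agent.H27Witt.ExtLemmas
import Mathlib

/-!
# Witt-vector valued additive functions generating an algebra
-/

set_option autoImplicit false
set_option linter.style.haveILetI false
universe u

open TensorProduct

noncomputable section

namespace Groth.Agent.H27PGrp

variable {p : ℕ} [hp : Fact p.Prime] {k : Type u} [Field k] {A A' : Type u} [CommRing A] [Algebra k A]
  [CommRing A'] [Algebra k A'] {n m : ℕ}

/-- applying an algebra map to the coordinates -/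
abbrev tm (φ : A →ₐ[k] A') : TruncatedWittVector p n A →+* TruncatedWittVector p n A' :=
  WittGrp.truncMap p n φ.toRingHom

theorem coeff_tm (φ : A →ₐ[k] A') (v : TruncatedWittVector p n A) (i : Fin n) : (tm φ v).coeff i = φ (v.coeff i) :=
  WittGrp.coeff_truncMap p n _ v i

theorem tm_comp {A'' : Type u} [CommRing A''] [Algebra k A''] (φ : A →ₐ[k] A') (ψ : A' →ₐ[k] A'')
    (v : TruncatedWittVector p n A) : tm ψ (tm φ v) = tm (ψ.comp φ) v :=
  TruncatedWittVector.ext fun i => by rw [coeff_tm, coeff_tm, coeff_tm]; rfl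

theorem tm_shift (φ : A →ₐ[k] A') (h : m ≤ n) (v : TruncatedWittVector p m A) :
    tm φ (WittGrp.shift p h v) = WittGrp.shift p h (tm φ v) :=
  WittGrp.truncMap_shift p h _ v

/-- padding with zero coordinates over any ring -/
def padR {R : Type u} [CommRing R] (v : TruncatedWittVector p m R) : TruncatedWittVector p n R :=
  TruncatedWittVector.mk p fun i => if h : (i : ℕ) < m then v.coeff ⟨i, h⟩ else 0

theorem tm_padR (χ : A →ₐ[k] k) (v : TruncatedWittVector p m A) :
    tm χ (padR v : TruncatedWittVector p n A) = H27Witt.padEnd (tm χ v) :=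
  TruncatedWittVector.ext fun i => by
    simp only [coeff_tm, H27Witt.padEnd, padR, TruncatedWittVector.coeff_mk]
    split_ifs <;> simp [coeff_tm]

theorem exists_of_isAlgMap {φ : TruncatedWittVector p n k → TruncatedWittVector p m k} (hφ : H27Witt.IsAlgMap φ)
    (w : TruncatedWittVector p n A) :
    ∃ w' : TruncatedWittVector p m A, ∀ χ : A →ₐ[k] k, tm χ w' = φ (tm χ w) := by
  obtain ⟨Q, hQ⟩ := hφ.coeff_spec
  refine ⟨TruncatedWittVector.mk p fun i => MvPolynomial.aeval (fun j => w.coeff j) (Q i), fun χ => ?_⟩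
  refine TruncatedWittVector.ext fun i => ?_
  rw [coeff_tm, TruncatedWittVector.coeff_mk, hQ, MvPolynomial.aeval_def, ← MvPolynomial.eval₂_id]
  rw [show χ (MvPolynomial.eval₂ (algebraMap k A) (fun j => w.coeff j) (Q i)) =
    χ.toRingHom (MvPolynomial.eval₂Hom (algebraMap k A) (fun j => w.coeff j) (Q i)) from rfl,
    MvPolynomial.map_eval₂Hom]
  exact congrArg₂ (fun (g : k →+* k) v => MvPolynomial.eval₂Hom g v (Q i))
    (RingHom.ext fun c => χ.commutes c) (funext fun j => (coeff_tm χ w j).symm)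

/-- vectors with coordinates in a subalgebra -/
theorem mem_range_tm_iff {R : Type u} [CommRing R] [Algebra R A] (U : Subalgebra R A) (v : TruncatedWittVector p n A) :
    v ∈ (WittGrp.truncMap p n U.val.toRingHom).range ↔ ∀ i, v.coeff i ∈ U := by
  constructor
  · rintro ⟨w, rfl⟩ i
    rw [WittGrp.coeff_truncMap]
    exact (w.coeff i).2
  · exact fun h => ⟨TruncatedWittVector.mk p fun i => ⟨v.coeff i, h i⟩, TruncatedWittVector.ext fun i => by
      rw [WittGrp.coeff_truncMap, TruncatedWittVector.coeff_mk]; rfl⟩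

namespace PGrp

variable (G : PGrp k A)

/-- Witt-vector valued additive functions -/
def IsAddW (v : TruncatedWittVector p n A) : Prop :=
  ∀ x y, tm (G.pt (x + y)) v = tm (G.pt x) v + tm (G.pt y) v

theorem IsAddW.shift {v : TruncatedWittVector p m A} (hv : G.IsAddW v) (h : m ≤ n) :
    G.IsAddW (WittGrp.shift p h v) := fun x y => by
  rw [tm_shift, tm_shift, tm_shift, hv, map_add]

theorem IsAddW.zero {v : TruncatedWittVector p n A} (hv : G.IsAddW v) : tm (G.pt 0) v = 0 := by
  have h := hv 0 0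
  rw [add_zero] at h
  exact left_eq_add.mp h

/-- some Witt-vector valued additive functions generate -/
def Emb (p : ℕ) [Fact p.Prime] (G : PGrp k A) : Prop :=
  ∃ (r : ℕ) (nn : Fin r → ℕ) (v : ∀ i, TruncatedWittVector p (nn i) A),
    (∀ i, G.IsAddW (v i)) ∧ Algebra.adjoin k (⋃ i, Set.range fun j => (v i).coeff j) = ⊤

/-- an algebra map vanishing on the kernel of a surjection factors -/
def factor (π : A →ₐ[k] A') (hπ : Function.Surjective π) (φ : A →ₐ[k] k) (h : ∀ a, π a = 0 → φ a = 0) : A' →ₐ[k] k :=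
  (Ideal.Quotient.liftₐ (RingHom.ker π) φ fun a ha => h a ((RingHom.mem_ker).mp ha)).comp
    (Ideal.quotientKerAlgEquivOfSurjective hπ).symm.toAlgHom

theorem factor_apply (π : A →ₐ[k] A') (hπ : Function.Surjective π) (φ : A →ₐ[k] k) (h : ∀ a, π a = 0 → φ a = 0) (a : A) :
    factor π hπ φ h (π a) = φ a := by
  have e : (Ideal.quotientKerAlgEquivOfSurjective hπ).symm (π a) = Ideal.Quotient.mk _ a :=
    (AlgEquiv.symm_apply_eq _).mpr rfl
  simp [factor, e]

/-- the subgroup cut out by the kernel of a surjection -/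
def sub (π : A →ₐ[k] A') (hπ : Function.Surjective π) (S : AddSubgroup G.P)
    (hS : ∀ x, x ∈ S ↔ ∀ a, π a = 0 → G.pt x a = 0) : PGrp k A' where
  P := S
  pt := Equiv.ofBijective
    (fun x => factor π hπ (G.pt x) fun a ha => (hS x.1).mp x.2 a ha) (by
    refine ⟨fun x y h => Subtype.ext (G.pt.injective (AlgHom.ext fun a => ?_)), fun φ => ?_⟩
    · have := AlgHom.congr_fun h (π a)
      simpa [factor_apply] using this
    · refine ⟨⟨G.pt.symm (φ.comp π), (hS _).mpr fun a ha => ?_⟩, AlgHom.ext fun b => ?_⟩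
      · rw [Equiv.apply_symm_apply, AlgHom.comp_apply, ha, map_zero]
      · obtain ⟨a, rfl⟩ := hπ b
        simp [factor_apply])
  decomp b := by
    obtain ⟨a, rfl⟩ := hπ b
    obtain ⟨n, b, c, h⟩ := G.decomp a
    exact ⟨n, fun i => π (b i), fun i => π (c i), fun x y => by
      simp [factor_apply, h]⟩
  negP b := by
    obtain ⟨a, rfl⟩ := hπ b
    obtain ⟨a', h⟩ := G.negP a
    exact ⟨π a', fun x => by simp [factor_apply, h]⟩

@[simp] theorem sub_pt (π : A →ₐ[k] A') (hπ : Function.Surjective π) (S : AddSubgroup G.P)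
    (hS : ∀ x, x ∈ S ↔ ∀ a, π a = 0 → G.pt x a = 0) (x : S) (a : A) :
    (G.sub π hπ S hS).pt x (π a) = G.pt (x : G.P) a :=
  factor_apply π hπ _ (fun a ha => (hS x.1).mp x.2 a ha) a

end PGrp

end Groth.Agent.H27PGrp
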