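import Groth.Agent.H27PGrp.Emb
import Groth.Agent.H27Witt.Torsor
import Mathlib

/-!
# Pairs of points in the fibres of a smooth additive function
-/

set_option autoImplicit false
set_option linter.style.haveILetI false
universe u

open TensorProduct

noncomputable section

namespace Groth.Agent.H27PGrp

variable {p : ℕ} [hp : Fact p.Prime] {k : Type u} [Field k] [IsAlgClosed k] {A : Type u} [CommRing A] [Algebra k A]
  [Algebra.Smooth k A]

theorem ext_tm {C : Type u} [CommRing C] [Algebra k C] [Algebra.Smooth k C] {n : ℕ}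
    {v w : TruncatedWittVector p n C} (h : ∀ φ : C →ₐ[k] k, tm φ v = tm φ w) : v = w :=
  TruncatedWittVector.ext fun i => ext_algHom (k := k) fun φ => by rw [← coeff_tm φ, ← coeff_tm φ, h φ]

variable [Algebra (Polynomial k) A] [IsScalarTower k (Polynomial k) A] [Algebra.Smooth (Polynomial k) A]

/-- the left inclusion -/
abbrev iL : A →ₐ[k] A ⊗[Polynomial k] A := Algebra.TensorProduct.includeLeft

/-- the right inclusion -/
abbrev iR : A →ₐ[k] A ⊗[Polynomial k] A :=
  (Algebra.TensorProduct.includeRight : A →ₐ[Polynomial k] A ⊗[Polynomial k] A).restrictScalars k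

omit [IsAlgClosed k] in
theorem smooth_fibre₂ : Algebra.Smooth k (A ⊗[Polynomial k] A) :=
  Algebra.Smooth.comp k A (A ⊗[Polynomial k] A)

omit [IsAlgClosed k] in
theorem smooth_fibre₃ : Algebra.Smooth k (A ⊗[Polynomial k] (A ⊗[Polynomial k] A)) := by
  haveI : Algebra.Smooth (Polynomial k) (A ⊗[Polynomial k] A) := Algebra.Smooth.comp (Polynomial k) A _
  exact Algebra.Smooth.comp k A (A ⊗[Polynomial k] (A ⊗[Polynomial k] A))

namespace PGrp

variable (G : PGrp k A)

/-- first point of a pair -/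
def fstPt (φ : A ⊗[Polynomial k] A →ₐ[k] k) : G.P := G.pt.symm (φ.comp iL)

/-- second point of a pair -/
def sndPt (φ : A ⊗[Polynomial k] A →ₐ[k] k) : G.P := G.pt.symm (φ.comp iR)

theorem pt_fstPt (φ : A ⊗[Polynomial k] A →ₐ[k] k) : G.pt (G.fstPt φ) = φ.comp iL := Equiv.apply_symm_apply _ _

theorem pt_sndPt (φ : A ⊗[Polynomial k] A →ₐ[k] k) : G.pt (G.sndPt φ) = φ.comp iR := Equiv.apply_symm_apply _ _

theorem apply_tmul (φ : A ⊗[Polynomial k] A →ₐ[k] k) (a b : A) :
    φ (a ⊗ₜ b) = G.pt (G.fstPt φ) a * G.pt (G.sndPt φ) b := by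
  rw [pt_fstPt, pt_sndPt, AlgHom.comp_apply, AlgHom.comp_apply, ← map_mul]
  congr 1
  simp

theorem pt_f_eq {f : A} (hX : algebraMap (Polynomial k) A Polynomial.X = f) (φ : A ⊗[Polynomial k] A →ₐ[k] k) :
    G.pt (G.sndPt φ) f = G.pt (G.fstPt φ) f := by
  rw [pt_fstPt, pt_sndPt, AlgHom.comp_apply, AlgHom.comp_apply, ← hX]
  congr 1
  exact (Algebra.TensorProduct.includeRight.commutes _).trans
    (Algebra.TensorProduct.algebraMap_apply _)

theorem faithfullyFlat {f : A} (hX : algebraMap (Polynomial k) A Polynomial.X = f) (hf : ∀ c, ∃ x, G.pt x f = c) :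
    Module.FaithfullyFlat (Polynomial k) A := by
  haveI : Module.Flat (Polynomial k) A := Algebra.Smooth.flat _ _
  refine ⟨fun {m} hm htop => ?_⟩
  haveI := hm
  letI : Field (Polynomial k ⧸ m) := Ideal.Quotient.field m
  haveI : Module.Finite k (Polynomial k ⧸ m) := finite_of_finite_type_of_isJacobsonRing k (Polynomial k ⧸ m)
  haveI : Algebra.IsIntegral k (Polynomial k ⧸ m) := Algebra.IsIntegral.of_finite k _
  let e : k ≃ₐ[k] Polynomial k ⧸ m := AlgEquiv.ofBijective (Algebra.ofId k _)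
    IsAlgClosed.algebraMap_bijective_of_isIntegral
  let π : Polynomial k →ₐ[k] k := e.symm.toAlgHom.comp (Ideal.Quotient.mkₐ k m)
  obtain ⟨x, hx⟩ := hf (π Polynomial.X)
  have hπ : (G.pt x).comp (IsScalarTower.toAlgHom k (Polynomial k) A) = π := Polynomial.algHom_ext (by
    rw [AlgHom.comp_apply, IsScalarTower.coe_toAlgHom', hX, hx])
  have h1 : ∀ a ∈ m • (⊤ : Submodule (Polynomial k) A), G.pt x a = 0 := by
    intro a ha
    refine Submodule.smul_induction_on ha (fun q hq b _ => ?_) fun a b ha hb => by rw [map_add, ha, hb, add_zero]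
    rw [Algebra.smul_def, map_mul, show G.pt x (algebraMap (Polynomial k) A q) = π q from AlgHom.congr_fun hπ q]
    simp [π, Ideal.Quotient.eq_zero_iff_mem.mpr hq]
  exact one_ne_zero ((map_one (G.pt x)).symm.trans (h1 1 (by rw [htop]; trivial)))

/-- functions constant on the fibres come from the base -/
theorem exists_eq_aeval [Module.FaithfullyFlat (Polynomial k) A] {f : A}
    (hX : algebraMap (Polynomial k) A Polynomial.X = f) {a : A}
    (ha : ∀ x y, G.pt x f = G.pt y f → G.pt x a = G.pt y a) : ∃ q : Polynomial k, algebraMap (Polynomial k) A q = a := by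
  haveI := smooth_fibre₂ (k := k) (A := A)
  have h : a ⊗ₜ[Polynomial k] (1 : A) = (1 : A) ⊗ₜ[Polynomial k] a := ext_algHom fun φ => by
    rw [G.apply_tmul, G.apply_tmul, map_one, map_one, mul_one, one_mul]
    exact ha _ _ (G.pt_f_eq hX φ).symm
  let q : A →ₗ[Polynomial k] A ⧸ LinearMap.range (Algebra.linearMap (Polynomial k) A) :=
    (LinearMap.range (Algebra.linearMap (Polynomial k) A)).mkQ
  have h1 : (1 : A) ⊗ₜ[Polynomial k] q a = 0 := by
    have h2 := congrArg (LinearMap.lTensor A q) h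
    rw [LinearMap.lTensor_tmul, LinearMap.lTensor_tmul,
      show q (1 : A) = 0 from (Submodule.Quotient.mk_eq_zero _).mpr ⟨1, map_one (algebraMap (Polynomial k) A)⟩, TensorProduct.tmul_zero] at h2
    exact h2.symm
  obtain ⟨c, hc⟩ := (Submodule.Quotient.mk_eq_zero _).mp (Module.FaithfullyFlat.tensorProduct_mk_injective
    (A := Polynomial k) (B := A) (A ⧸ LinearMap.range (Algebra.linearMap (Polynomial k) A))
    (a₁ := q a) (a₂ := 0) (by simpa using h1))
  exact ⟨c, hc⟩

/-- differences of pairs, as a map of functions -/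
theorem exists_theta : ∃ Θ : A →ₐ[k] A ⊗[Polynomial k] A, ∀ φ a, φ (Θ a) = G.pt (G.sndPt φ - G.fstPt φ) a := by
  haveI := smooth_fibre₂ (k := k) (A := A)
  have hex : ∀ a, ∃ z : A ⊗[Polynomial k] A, ∀ φ : A ⊗[Polynomial k] A →ₐ[k] k,
      φ z = G.pt (G.sndPt φ - G.fstPt φ) a := by
    intro a
    obtain ⟨n, b, c, h⟩ := G.decomp a
    exact ⟨∑ i, (G.neg' (c i)) ⊗ₜ b i, fun φ => by
      simp only [map_sum, G.apply_tmul, pt_neg', sub_eq_add_neg, h]
      exact Finset.sum_congr rfl fun i _ => mul_comm _ _⟩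
  choose Θ hΘ using hex
  exact ⟨{ toFun := Θ
           map_one' := ext_algHom fun φ => by rw [hΘ, map_one, map_one]
           map_mul' := fun a b => ext_algHom fun φ => by rw [hΘ, map_mul φ, hΘ, hΘ, map_mul]
           map_zero' := ext_algHom fun φ => by rw [hΘ, map_zero, map_zero]
           map_add' := fun a b => ext_algHom fun φ => by rw [hΘ, map_add φ, hΘ, hΘ, map_add]
           commutes' := fun c => ext_algHom fun φ => by rw [hΘ, AlgHom.commutes, AlgHom.commutes] }, fun φ a => hΘ a φ⟩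

/-- vectors with prescribed differences along the fibres -/
theorem exists_extend [Module.FaithfullyFlat (Polynomial k) A] {f : A}
    (hX : algebraMap (Polynomial k) A Polynomial.X = f) (hf : G.IsAdd f) {n : ℕ} (a : TruncatedWittVector p n A)
    (ha : ∀ x y, G.pt x f = 0 → G.pt y f = 0 → tm (G.pt (x + y)) a = tm (G.pt x) a + tm (G.pt y) a) :
    ∃ τ : TruncatedWittVector p n A, tm (G.pt 0) τ = 0 ∧
      ∀ x y, G.pt x f = G.pt y f → tm (G.pt y) τ - tm (G.pt x) τ = tm (G.pt (y - x)) a := by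
  haveI := smooth_fibre₂ (k := k) (A := A)
  haveI := smooth_fibre₃ (k := k) (A := A)
  obtain ⟨Θ, hΘ⟩ := G.exists_theta
  have hd : ∀ φ : A ⊗[Polynomial k] A →ₐ[k] k, tm φ (tm Θ a) = tm (G.pt (G.sndPt φ - G.fstPt φ)) a := fun φ =>
    TruncatedWittVector.ext fun i => by rw [coeff_tm, coeff_tm, coeff_tm, hΘ]
  let C := A ⊗[Polynomial k] A
  let g12 : C →ₐ[k] A ⊗[Polynomial k] C := (H27Witt.f12 (Polynomial k) A).restrictScalars k
  let g13 : C →ₐ[k] A ⊗[Polynomial k] C := (H27Witt.f13 (Polynomial k) A).restrictScalars k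
  let g23 : C →ₐ[k] A ⊗[Polynomial k] C := (H27Witt.f23 (Polynomial k) A).restrictScalars k
  have hcoc : tm g12 (tm Θ a) + tm g23 (tm Θ a) = tm g13 (tm Θ a) := by
    refine ext_tm (k := k) fun φ => ?_
    rw [map_add, tm_comp g12 φ, tm_comp g23 φ, tm_comp g13 φ, hd, hd, hd]
    have e1 : G.fstPt (φ.comp g13) = G.fstPt (φ.comp g12) := G.pt.injective (AlgHom.ext fun b => by
      simp only [pt_fstPt, AlgHom.comp_apply]
      congr 1)
    have e2 : G.fstPt (φ.comp g23) = G.sndPt (φ.comp g12) := G.pt.injective (AlgHom.ext fun b => by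
      simp only [pt_fstPt, pt_sndPt, AlgHom.comp_apply]
      congr 1)
    have e3 : G.sndPt (φ.comp g13) = G.sndPt (φ.comp g23) := G.pt.injective (AlgHom.ext fun b => by
      simp only [pt_sndPt, AlgHom.comp_apply]
      congr 1)
    rw [← ha _ _ ?_ ?_]
    · congr 2
      rw [e1, e2, e3]
      abel_nf
    · rw [sub_eq_add_neg, hf, ← sub_eq_zero.mpr (G.pt_f_eq hX (φ.comp g12)), sub_eq_add_neg]
      congr 1
      exact eq_neg_of_add_eq_zero_left (by rw [← hf, neg_add_cancel, hf.zero])
    · rw [sub_eq_add_neg, hf, ← sub_eq_zero.mpr (G.pt_f_eq hX (φ.comp g23)), sub_eq_add_neg]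
      congr 1
      exact eq_neg_of_add_eq_zero_left (by rw [← hf, neg_add_cancel, hf.zero])
  obtain ⟨τ, hτ⟩ := H27Witt.exists_witt_coboundary (p := p) (B := Polynomial k) (C := A) (tm Θ a) hcoc
  have hτ' : ∀ φ : C →ₐ[k] k, tm (G.pt (G.sndPt φ)) τ - tm (G.pt (G.fstPt φ)) τ =
      tm (G.pt (G.sndPt φ - G.fstPt φ)) a := by
    intro φ
    rw [← hd, ← hτ, map_sub, pt_fstPt, pt_sndPt, ← tm_comp iR φ, ← tm_comp iL φ]
    rfl
  have hpair : ∀ x y, G.pt x f = G.pt y f → tm (G.pt y) τ - tm (G.pt x) τ = tm (G.pt (y - x)) a := by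
    intro x y hxy
    let yB : A →ₐ[k] k := G.pt y
    letI : Algebra (Polynomial k) k := (Polynomial.aeval (G.pt x f)).toRingHom.toAlgebra
    have hx : ∀ z : G.P, G.pt z f = G.pt x f → ∀ q : Polynomial k,
        G.pt z (algebraMap (Polynomial k) A q) = algebraMap (Polynomial k) k q := by
      intro z hz q
      have : (G.pt z).comp (IsScalarTower.toAlgHom k (Polynomial k) A) = Polynomial.aeval (G.pt x f) :=
        Polynomial.algHom_ext (by rw [AlgHom.comp_apply, IsScalarTower.coe_toAlgHom', hX, Polynomial.aeval_X, hz])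
      exact AlgHom.congr_fun this q
    let x' : A →ₐ[Polynomial k] k := { (G.pt x).toRingHom with commutes' := hx x rfl }
    let y' : A →ₐ[Polynomial k] k := { (G.pt y).toRingHom with commutes' := hx y hxy.symm }
    let m := Algebra.TensorProduct.lift x' y' fun _ _ => Commute.all _ _
    let φ : C →ₐ[k] k := { m.toRingHom with
      commutes' := fun c => by
        change m (algebraMap k A c ⊗ₜ 1) = c
        simp [m, x'] }
    have h1 : G.fstPt φ = x := G.pt.injective (AlgHom.ext fun b => by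
      rw [pt_fstPt]
      change m (b ⊗ₜ 1) = _
      simp [m, x'])
    have h2 : G.sndPt φ = y := G.pt.injective (AlgHom.ext fun b => by
      rw [pt_sndPt]
      change m ((1 : A) ⊗ₜ b) = _
      simp [m, y'])
    have := hτ' φ
    rwa [h1, h2] at this
  let c₀ : TruncatedWittVector p n A := WittGrp.truncMap p n (algebraMap k A) (tm (G.pt 0) τ)
  have hc₀ : ∀ x, tm (G.pt x) c₀ = tm (G.pt 0) τ := fun x => TruncatedWittVector.ext fun i => by
    rw [coeff_tm, WittGrp.coeff_truncMap, AlgHom.commutes]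
    rfl
  exact ⟨τ - c₀, by rw [map_sub, hc₀, sub_self], fun x y h => by
    rw [map_sub, map_sub, hc₀, hc₀, sub_sub_sub_cancel_right, hpair x y h]⟩

end PGrp

end Groth.Agent.H27PGrp
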