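import Groth.Agent.H27PGrp.Fibre
import Groth.Agent.H27Witt.Cocycle
import Mathlib

/-!
# Extending generating Witt vectors from the zero set of a smooth additive function
-/

set_option autoImplicit false
set_option linter.style.haveILetI false
universe u

open TensorProduct

noncomputable section

namespace Groth.Agent.H27PGrp

variable {p : ℕ} [hp : Fact p.Prime] {k : Type u} [Field k] [IsAlgClosed k] [CharP k p] {A : Type u} [CommRing A]
  [Algebra k A] [Algebra.Smooth k A] [Algebra (Polynomial k) A] [IsScalarTower k (Polynomial k) A]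
  [Algebra.Smooth (Polynomial k) A]

namespace PGrp

variable (G : PGrp k A) {f : A}

omit [Algebra.Smooth (Polynomial k) A] in
theorem algebraMap_eq_aeval (hX : algebraMap (Polynomial k) A Polynomial.X = f) (q : Polynomial k) :
    algebraMap (Polynomial k) A q = Polynomial.aeval f q := by
  rw [← hX]
  exact AlgHom.congr_fun (Polynomial.algHom_ext (f := IsScalarTower.toAlgHom k (Polynomial k) A)
    (g := Polynomial.aeval (algebraMap (Polynomial k) A Polynomial.X)) (by simp)) q

omit [CharP k p] hp in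
theorem exists_poly₂ [Module.FaithfullyFlat (Polynomial k) A] (hX : algebraMap (Polynomial k) A Polynomial.X = f)
    (hsurj : ∀ c, ∃ x, G.pt x f = c) (V : G.P → G.P → k) (z : A ⊗[k] A)
    (hz : ∀ x y, V x y = Algebra.TensorProduct.lift (G.pt x) (G.pt y) (fun _ _ => Commute.all _ _) z)
    (hinv : ∀ x x' y y', G.pt x f = G.pt x' f → G.pt y f = G.pt y' f → V x y = V x' y') :
    ∃ P : MvPolynomial (Fin 1 ⊕ Fin 1) k, ∀ x y,
      V x y = MvPolynomial.eval (Sum.elim (fun _ => G.pt x f) fun _ => G.pt y f) P := by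
  classical
  let U : Submodule k A := Subalgebra.toSubmodule (Polynomial.aeval (R := k) f).range
  have hU : ∀ a : A, (∀ x x', G.pt x f = G.pt x' f → G.pt x a = G.pt x' a) → a ∈ U := by
    intro a ha
    obtain ⟨q, hq⟩ := G.exists_eq_aeval hX ha
    exact (AlgHom.mem_range _).mpr ⟨q, (algebraMap_eq_aeval hX q).symm.trans hq⟩
  have hsep : ∀ a : A, (∀ l : Module.Dual k A, (∀ u ∈ U, l u = 0) → l a = 0) → a ∈ U := by
    intro a ha
    rw [← Submodule.Quotient.mk_eq_zero, ← Module.forall_dual_apply_eq_zero_iff k]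
    exact fun l => ha (l.comp U.mkQ) fun u hu => by
      simp [(Submodule.Quotient.mk_eq_zero U).mpr hu]
  let β := Module.Free.chooseBasis k A
  obtain ⟨c, hc⟩ := TensorProduct.eq_repr_basis_right β z
  have hV : ∀ x y, V x y = ∑ i ∈ c.support, G.pt x (c i) * G.pt y (β i) := fun x y => by
    rw [hz, ← hc, Finsupp.sum, map_sum]
    exact Finset.sum_congr rfl fun i _ => Algebra.TensorProduct.lift_tmul _ _ _ _ _
  have hleft : ∀ i ∈ c.support, c i ∈ U := by
    intro i hi
    refine hsep _ fun l hl => ?_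
    have h1 : ∀ y, ∑ i ∈ c.support, G.pt y (β i) * l (c i) = 0 := by
      intro y
      have hmem : ∑ i ∈ c.support, G.pt y (β i) • c i ∈ U := hU _ fun x x' hx => by
        have := hinv x x' y y hx rfl
        rw [hV, hV] at this
        simpa [mul_comm] using this
      have := hl _ hmem
      simpa using this
    have h2 : ∑ i ∈ c.support, l (c i) • β i = 0 := G.ext_pt fun y => by
      rw [map_zero, ← h1 y, map_sum]
      exact Finset.sum_congr rfl fun i _ => by rw [map_smul, smul_eq_mul, mul_comm]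
    exact linearIndependent_iff'.mp β.linearIndependent _ _ h2 i hi
  have hq : ∀ i, ∃ q : Polynomial k, i ∈ c.support → Polynomial.aeval f q = c i := by
    intro i
    by_cases hi : i ∈ c.support
    · obtain ⟨q, hq⟩ := (AlgHom.mem_range _).mp (hleft i hi)
      exact ⟨q, fun _ => hq⟩
    · exact ⟨0, fun h => absurd h hi⟩
  choose q hq using hq
  let N := c.support.sup (fun i => (q i).natDegree) + 1
  let γ : ℕ → A := fun m => ∑ i ∈ c.support, (q i).coeff m • β i
  have hV' : ∀ x y, V x y = ∑ m ∈ Finset.range N, G.pt x f ^ m * G.pt y (γ m) := by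
    intro x y
    simp only [γ, map_sum, Finset.mul_sum, map_smul, smul_eq_mul]
    rw [Finset.sum_comm, hV]
    refine Finset.sum_congr rfl fun i hi => ?_
    have hdeg : (q i).natDegree < N :=
      Nat.lt_succ_of_le (Finset.le_sup (f := fun i => (q i).natDegree) hi)
    rw [← hq i hi, ← Polynomial.aeval_algHom_apply, Polynomial.coe_aeval_eq_eval,
      Polynomial.eval_eq_sum_range' hdeg, Finset.sum_mul]
    exact Finset.sum_congr rfl fun m _ => by ring
  have hγ : ∀ m ∈ Finset.range N, γ m ∈ U := by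
    intro m hm
    refine hsep _ fun l hl => ?_
    let Q : Polynomial k := ∑ m ∈ Finset.range N, Polynomial.monomial m (l (γ m))
    have hQ : Q = 0 := Polynomial.funext fun s => by
      obtain ⟨x, rfl⟩ := hsurj s
      have hmem : ∑ m ∈ Finset.range N, G.pt x f ^ m • γ m ∈ U := hU _ fun y y' hy => by
        have := hinv x x y y' rfl hy
        rw [hV', hV'] at this
        simpa using this
      have := hl _ hmem
      simp only [Q, Polynomial.eval_finset_sum, Polynomial.eval_monomial, Polynomial.eval_zero]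
      simpa [mul_comm] using this
    have := congrArg (fun Q => Polynomial.coeff Q m) hQ
    simpa [Q, Polynomial.finset_sum_coeff, Polynomial.coeff_monomial, Finset.mem_range.mp hm] using this
  have hr : ∀ m, ∃ r : Polynomial k, m ∈ Finset.range N → Polynomial.aeval f r = γ m := by
    intro m
    by_cases hm : m ∈ Finset.range N
    · obtain ⟨r, hr⟩ := (AlgHom.mem_range _).mp (hγ m hm)
      exact ⟨r, fun _ => hr⟩
    · exact ⟨0, fun h => absurd h hm⟩
  choose r hr using hr
  refine ⟨∑ m ∈ Finset.range N, MvPolynomial.X (Sum.inl 0) ^ m * Polynomial.aeval (MvPolynomial.X (Sum.inr 0)) (r m),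
    fun x y => ?_⟩
  rw [hV', map_sum]
  refine Finset.sum_congr rfl fun m hm => ?_
  rw [map_mul, map_pow, MvPolynomial.eval_X, ← hr m hm, ← Polynomial.aeval_algHom_apply,
    ← MvPolynomial.aeval_eq_eval, ← Polynomial.aeval_algHom_apply, MvPolynomial.aeval_X]
  rfl

/-- the defect of an extension is a cocycle on the line -/
theorem exists_cocycle [Module.FaithfullyFlat (Polynomial k) A] (hX : algebraMap (Polynomial k) A Polynomial.X = f)
    (hf : G.IsAdd f) (hsurj : ∀ c, ∃ x, G.pt x f = c) {n : ℕ} (a τ : TruncatedWittVector p n A)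
    (hτ0 : tm (G.pt 0) τ = 0)
    (hτ : ∀ x y, G.pt x f = G.pt y f → tm (G.pt y) τ - tm (G.pt x) τ = tm (G.pt (y - x)) a) :
    ∃ c, H27Witt.IsCocycle (p := p) (n := 1) (r := n) (k := k) c ∧
      ∀ x y, tm (G.pt x) τ + tm (G.pt y) τ - tm (G.pt (x + y)) τ =
        c (H27Witt.one p (G.pt x f)) (H27Witt.one p (G.pt y f)) := by
  choose σ hσ using hsurj
  let V : G.P → G.P → TruncatedWittVector p n k := fun x y =>
    tm (G.pt x) τ + tm (G.pt y) τ - tm (G.pt (x + y)) τ
  have h1 : ∀ x x' y, G.pt x f = G.pt x' f → V x y = V x' y := by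
    intro x x' y hx
    have e1 := hτ x x' hx
    have e2 := hτ (x + y) (x' + y) (by rw [hf, hf, hx])
    rw [show x' + y - (x + y) = x' - x by abel, ← e1, sub_eq_sub_iff_add_eq_add] at e2
    simp only [V]
    rw [sub_eq_sub_iff_add_eq_add, add_right_comm (tm (G.pt x') τ), ← e2]
    abel
  have hsymm : ∀ x y, V x y = V y x := fun x y => by simp only [V, add_comm x y, add_comm (tm (G.pt x) τ)]
  have hinv : ∀ x x' y y', G.pt x f = G.pt x' f → G.pt y f = G.pt y' f → V x y = V x' y' := fun x x' y y' hx hy => by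
    rw [h1 x x' y hx, hsymm x', h1 y y' x' hy, hsymm y']
  let c : TruncatedWittVector p 1 k → TruncatedWittVector p 1 k → TruncatedWittVector p n k := fun s t =>
    V (σ (s.coeff 0)) (σ (t.coeff 0))
  have hc : ∀ x y, V x y = c (H27Witt.one p (G.pt x f)) (H27Witt.one p (G.pt y f)) := fun x y => by
    simp only [c, TruncatedWittVector.coeff_mk]
    exact hinv _ _ _ _ (hσ _).symm (hσ _).symm
  refine ⟨c, ⟨?_, fun s t => hsymm _ _, fun s t e => ?_, ?_⟩, hc⟩
  · -- the components are polynomials
    have hdec : ∀ a : A, ∃ z : A ⊗[k] A, ∀ x y,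
        G.pt (x + y) a = Algebra.TensorProduct.lift (G.pt x) (G.pt y) (fun _ _ => Commute.all _ _) z := by
      intro a
      obtain ⟨m, b, d, h⟩ := G.decomp a
      exact ⟨∑ i, b i ⊗ₜ d i, fun x y => by simp [h]⟩
    choose δ hδ using hdec
    let Z : TruncatedWittVector p n (A ⊗[k] A) :=
      tm (Algebra.TensorProduct.includeLeft : A →ₐ[k] A ⊗[k] A) τ +
        tm (Algebra.TensorProduct.includeRight : A →ₐ[k] A ⊗[k] A) τ -
          TruncatedWittVector.mk p fun i => δ (τ.coeff i)
    have hZ : ∀ x y, V x y = tm (Algebra.TensorProduct.lift (G.pt x) (G.pt y) fun _ _ => Commute.all _ _) Z := by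
      intro x y
      have eL : (Algebra.TensorProduct.lift (G.pt x) (G.pt y) fun _ _ => Commute.all _ _).comp
          Algebra.TensorProduct.includeLeft = G.pt x := AlgHom.ext fun b => by simp
      have eR : (Algebra.TensorProduct.lift (G.pt x) (G.pt y) fun _ _ => Commute.all _ _).comp
          Algebra.TensorProduct.includeRight = G.pt y := AlgHom.ext fun b => by simp
      simp only [Z, V, map_sub, map_add, tm_comp, eL, eR]
      congr 1
      refine TruncatedWittVector.ext fun i => ?_
      rw [coeff_tm, coeff_tm, TruncatedWittVector.coeff_mk, hδ]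
    have hP : ∀ i : Fin n, ∃ P : MvPolynomial (Fin 1 ⊕ Fin 1) k, ∀ x y,
        (V x y).coeff i = MvPolynomial.eval (Sum.elim (fun _ => G.pt x f) fun _ => G.pt y f) P := fun i =>
      G.exists_poly₂ hX (fun s => ⟨σ s, hσ s⟩) (fun x y => (V x y).coeff i) (Z.coeff i)
        (fun x y => by rw [hZ, coeff_tm]) fun x x' y y' hx hy => by rw [hinv x x' y y' hx hy]
    choose P hP using hP
    refine ⟨TruncatedWittVector.mk p P, fun s t => TruncatedWittVector.ext fun i => ?_⟩
    rw [WittGrp.coeff_truncMap, TruncatedWittVector.coeff_mk]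
    simp only [c]
    rw [hP, hσ, hσ]
    refine congrArg (fun v => MvPolynomial.eval v (P i)) (funext fun j => ?_)
    rcases j with j | j <;> simp [Subsingleton.elim j 0]
  · simp only [c]
    rw [hinv (σ ((s + t).coeff 0)) (σ (s.coeff 0) + σ (t.coeff 0)) (σ (e.coeff 0)) (σ (e.coeff 0))
        (by rw [hσ, hf, hσ, hσ, H27Witt.coeff_zero_add]) rfl,
      hinv (σ (s.coeff 0)) (σ (s.coeff 0)) (σ ((t + e).coeff 0)) (σ (t.coeff 0) + σ (e.coeff 0)) rfl
        (by rw [hσ, hf, hσ, hσ, H27Witt.coeff_zero_add])]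
    simp only [V, add_assoc (σ (s.coeff 0))]
    abel
  · simp only [c]
    rw [hinv _ 0 _ 0 (by rw [hσ, TruncatedWittVector.coeff_zero, hf.zero]) (by rw [hσ, TruncatedWittVector.coeff_zero, hf.zero])]
    simp [V, hτ0]

/-- an additive vector extending a given one, from which the latter is recovered -/
theorem exists_lift_vec [Module.FaithfullyFlat (Polynomial k) A] (hX : algebraMap (Polynomial k) A Polynomial.X = f)
    (hf : G.IsAdd f) (hsurj : ∀ c, ∃ x, G.pt x f = c) {n : ℕ} (a : TruncatedWittVector p (n + 1) A)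
    (ha : ∀ x y, G.pt x f = 0 → G.pt y f = 0 → tm (G.pt (x + y)) a = tm (G.pt x) a + tm (G.pt y) a) :
    ∃ (h : TruncatedWittVector p (1 + (n + 1)) A) (τ : TruncatedWittVector p (n + 1) A), G.IsAddW h ∧
      (∀ x y, G.pt x f = G.pt y f → tm (G.pt y) τ - tm (G.pt x) τ = tm (G.pt (y - x)) a) ∧
      ∀ U : Subalgebra k A, f ∈ U → (∀ i, h.coeff i ∈ U) → ∀ i, τ.coeff i ∈ U := by
  obtain ⟨τ, hτ0, hτ⟩ := G.exists_extend hX hf a ha
  obtain ⟨c, hc, hceq⟩ := G.exists_cocycle hX hf hsurj a τ hτ0 hτ
  obtain ⟨g, ψ, hg, hg0, hψ, hgψ⟩ := H27Witt.cocycle_inner n c hc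
  let w : TruncatedWittVector p 1 A := TruncatedWittVector.mk p fun _ => f
  have hw : ∀ x, tm (G.pt x) w = H27Witt.one p (G.pt x f) := fun x => TruncatedWittVector.ext fun i => by
    rw [coeff_tm, TruncatedWittVector.coeff_mk, TruncatedWittVector.coeff_mk]
  -- algebraic maps of `f` have coordinates in every subalgebra containing `f`
  have hmap : ∀ {m : ℕ} (φ : TruncatedWittVector p 1 k → TruncatedWittVector p m k), H27Witt.IsAlgMap φ →
      ∃ v : TruncatedWittVector p m A, (∀ x, tm (G.pt x) v = φ (H27Witt.one p (G.pt x f))) ∧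
        ∀ U : Subalgebra k A, f ∈ U → ∀ i, v.coeff i ∈ U := by
    intro m φ hφ
    obtain ⟨Q, hQ⟩ := hφ.coeff_spec
    refine ⟨TruncatedWittVector.mk p fun i => MvPolynomial.aeval (fun _ => f) (Q i),
      fun x => TruncatedWittVector.ext fun i => ?_, fun U hU i => ?_⟩
    · rw [coeff_tm, TruncatedWittVector.coeff_mk, hQ, ← AlgHom.comp_apply, MvPolynomial.comp_aeval,
        MvPolynomial.aeval_eq_eval]
      simp [TruncatedWittVector.coeff_mk]
    · rw [TruncatedWittVector.coeff_mk, show (fun _ : Fin 1 => f) = fun j : Fin 1 => U.val ((fun _ : Fin 1 => (⟨f, hU⟩ : U)) j) from rfl,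
        ← MvPolynomial.comp_aeval, AlgHom.comp_apply]
      exact Subtype.prop _
  obtain ⟨gv, hgv, hgvU⟩ := hmap g hg
  obtain ⟨ψv, hψv, hψvU⟩ := hmap ψ hψ
  let N := 1 + (n + 1)
  let h : TruncatedWittVector p N A :=
    (padR ψv : TruncatedWittVector p N A) - WittGrp.shift p (Nat.le_add_left (n + 1) 1) (τ - gv)
  refine ⟨h, τ, fun x y => ?_, hτ, fun U hfU hU i => ?_⟩
  · simp only [h, map_sub, tm_padR, tm_shift, hψv, hgv]
    rw [hf, H27Witt.one_add, map_add ψ]
    have e := hgψ (H27Witt.one p (G.pt x f)) (H27Witt.one p (G.pt y f))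
    rw [← hceq, H27Witt.cobd] at e
    have e2 := H27Witt.carry_spec (r' := n + 1) (ψ (H27Witt.one p (G.pt x f))) (ψ (H27Witt.one p (G.pt y f)))
    rw [eq_sub_iff_add_eq.mpr e2.symm, eq_sub_iff_add_eq.mpr (sub_eq_iff_eq_add'.mp e).symm]
    simp only [map_sub, map_add]
    abel
  · let S := (WittGrp.truncMap p N U.val.toRingHom).range
    have hpad : (padR ψv : TruncatedWittVector p N A) ∈ S := (mem_range_tm_iff U _).mpr fun i => by
      simp only [padR, TruncatedWittVector.coeff_mk]
      split_ifs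
      · exact hψvU U hfU _
      · exact zero_mem _
    have hsh : WittGrp.shift p (Nat.le_add_left (n + 1) 1) (τ - gv) ∈ S := by
      have := sub_mem hpad ((mem_range_tm_iff U h).mpr hU)
      rwa [show (padR ψv : TruncatedWittVector p N A) - h = _ from sub_sub_cancel _ _] at this
    have hd : τ - gv ∈ (WittGrp.truncMap p (n + 1) U.val.toRingHom).range := (mem_range_tm_iff U _).mpr fun j => by
      have := (mem_range_tm_iff U _).mp hsh ⟨(j : ℕ) + 1, by omega⟩
      rw [WittGrp.coeff_shift, dif_pos (by simp; omega)] at this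
      convert this using 2
      exact Fin.ext (by simp [N])
    have := add_mem hd ((mem_range_tm_iff U gv).mpr (hgvU U hfU))
    rw [sub_add_cancel] at this
    exact (mem_range_tm_iff U τ).mp this i

/-- generators on the zero set of a smooth additive function give generators -/
theorem emb_of_emb_zeroSet (hX : algebraMap (Polynomial k) A Polynomial.X = f) (hf : G.IsAdd f)
    (hsurj : ∀ c, ∃ x, G.pt x f = c) {A' : Type u} [CommRing A'] [Algebra k A'] (π : A →ₐ[k] A')
    (hπ : Function.Surjective π) (hker : ∀ a, π a = 0 ↔ f ∣ a) (S : AddSubgroup G.P)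
    (hS : ∀ x, x ∈ S ↔ ∀ a, π a = 0 → G.pt x a = 0) (hemb : Emb p (G.sub π hπ S hS)) : Emb p G := by
  classical
  haveI := G.faithfullyFlat hX hsurj
  haveI := smooth_fibre₂ (k := k) (A := A)
  obtain ⟨r, nn, v, hv, hgen⟩ := hemb
  have hSf : ∀ x, G.pt x f = 0 → x ∈ S := fun x hx => (hS x).mpr fun a ha => by
    obtain ⟨b, rfl⟩ := (hker a).mp ha
    rw [map_mul, hx, zero_mul]
  have key : ∀ i, ∃ (N : ℕ) (h : TruncatedWittVector p N A) (a τ : TruncatedWittVector p (nn i) A), G.IsAddW h ∧
      tm π a = v i ∧ (∀ x y, G.pt x f = G.pt y f → tm (G.pt y) τ - tm (G.pt x) τ = tm (G.pt (y - x)) a) ∧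
      ∀ U : Subalgebra k A, f ∈ U → (∀ j, h.coeff j ∈ U) → ∀ j, τ.coeff j ∈ U := by
    intro i
    generalize v i = vi, hv i = hvi
    revert vi
    generalize nn i = M
    intro vi hvi
    rcases M with _ | n
    · exact ⟨0, 0, 0, 0, fun _ _ => TruncatedWittVector.ext fun j => j.elim0, TruncatedWittVector.ext fun j => j.elim0,
        fun _ _ _ => TruncatedWittVector.ext fun j => j.elim0, fun _ _ _ j => j.elim0⟩
    let a : TruncatedWittVector p (n + 1) A :=
      TruncatedWittVector.mk p fun j => Function.surjInv hπ (vi.coeff j)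
    have ha : tm π a = vi := TruncatedWittVector.ext fun j => by
      rw [coeff_tm, TruncatedWittVector.coeff_mk, Function.surjInv_eq hπ]
    have hsub : ∀ x (hx : x ∈ S), tm ((G.sub π hπ S hS).pt ⟨x, hx⟩) vi = tm (G.pt x) a := fun x hx => by
      rw [← ha, tm_comp π]
      exact TruncatedWittVector.ext fun j => by
        rw [coeff_tm, coeff_tm]
        exact G.sub_pt π hπ S hS ⟨x, hx⟩ _
    obtain ⟨h, τ, h1, h2, h3⟩ := G.exists_lift_vec hX hf hsurj a fun x y hx hy => by
      rw [← hsub x (hSf x hx), ← hsub y (hSf y hy), ← hsub (x + y) (add_mem (hSf x hx) (hSf y hy))]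
      exact hvi ⟨x, hSf x hx⟩ ⟨y, hSf y hy⟩
    exact ⟨_, h, a, τ, h1, ha, h2, h3⟩
  choose N h a τ hh ha hτ hU using key
  let one' : TruncatedWittVector p 1 A := TruncatedWittVector.mk p fun _ => f
  have hone : G.IsAddW one' := fun x y => TruncatedWittVector.ext fun j => by
    rw [Subsingleton.elim j 0, H27Witt.coeff_zero_add]
    simp [one', coeff_tm, TruncatedWittVector.coeff_mk, hf x y]
  refine ⟨r + 1, Fin.cons 1 N, Fin.cons one' h, Fin.cases hone hh, ?_⟩
  set U := Algebra.adjoin k (⋃ i, Set.range fun j =>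
    ((Fin.cons one' h : ∀ i, TruncatedWittVector p ((Fin.cons 1 N : Fin (r + 1) → ℕ) i) A) i).coeff j) with hUdef
  have hfU : f ∈ U := Algebra.subset_adjoin (Set.mem_iUnion.mpr ⟨0, (0 : Fin 1),
    TruncatedWittVector.coeff_mk (fun _ : Fin 1 => f) 0⟩)
  have hτU : ∀ i j, (τ i).coeff j ∈ U := fun i => hU i U hfU fun j =>
    Algebra.subset_adjoin (Set.mem_iUnion.mpr ⟨i.succ, j, rfl⟩)
  -- the subalgebra over the base
  let U' : Subalgebra (Polynomial k) A :=
    { toSubsemiring := U.toSubsemiring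
      algebraMap_mem' := fun q => by
        change algebraMap (Polynomial k) A q ∈ U
        rw [algebraMap_eq_aeval hX]
        exact Polynomial.aeval_mem_adjoin_singleton k f |> fun hq =>
          Algebra.adjoin_le (Set.singleton_subset_iff.mpr hfU) hq }
  let ι : A ⊗[Polynomial k] U' →ₐ[k] A ⊗[Polynomial k] A :=
    (Algebra.TensorProduct.map (AlgHom.id (Polynomial k) A) U'.val).restrictScalars k
  obtain ⟨Θ, hΘ⟩ := G.exists_theta
  have hleft : ∀ b : A, b ⊗ₜ[Polynomial k] (1 : A) ∈ ι.range := fun b =>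
    (AlgHom.mem_range _).mpr ⟨b ⊗ₜ 1, by simp [ι]⟩
  have hΘa : ∀ i j, Θ ((a i).coeff j) ∈ ι.range := by
    intro i
    have h1 : tm Θ (a i) = tm iR (τ i) - tm iL (τ i) := ext_tm (k := k) fun φ => by
      rw [map_sub, tm_comp iR φ, tm_comp iL φ, ← pt_fstPt G, ← pt_sndPt G, hτ i _ _ (G.pt_f_eq hX φ).symm]
      exact TruncatedWittVector.ext fun j => by rw [coeff_tm, coeff_tm, coeff_tm, hΘ]
    have h2 : tm Θ (a i) ∈ (WittGrp.truncMap p (nn i) ι.range.val.toRingHom).range := by
      rw [h1]
      refine sub_mem ((mem_range_tm_iff _ _).mpr fun j => ?_) ((mem_range_tm_iff _ _).mpr fun j => ?_)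
      · rw [coeff_tm]
        exact (AlgHom.mem_range _).mpr ⟨1 ⊗ₜ ⟨(τ i).coeff j, hτU i j⟩, by simp [ι]⟩
      · rw [coeff_tm]
        exact hleft _
    intro j
    have := (mem_range_tm_iff _ _).mp h2 j
    rwa [coeff_tm] at this
  -- every function on the zero set is a polynomial in the coordinates
  let E := Algebra.adjoin k (⋃ i, Set.range fun j => (a i).coeff j)
  have hE : E.map π = ⊤ := by
    rw [AlgHom.map_adjoin, Set.image_iUnion, ← hgen]
    congr 1
    refine Set.iUnion_congr fun i => ?_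
    rw [← Set.range_comp, ← ha i]
    exact congrArg Set.range (funext fun j => (coeff_tm π (a i) j).symm)
  have hΘE : ∀ e ∈ E, Θ e ∈ ι.range := by
    intro e he
    have : E ≤ ι.range.comap Θ := Algebra.adjoin_le fun b hb => by
      obtain ⟨i, j, rfl⟩ := Set.mem_iUnion.mp hb
      exact hΘa i j
    exact this he
  have hΘall : ∀ b, Θ b ∈ ι.range := by
    intro b
    obtain ⟨e, he, hee⟩ : ∃ e ∈ E, π e = π b := (hE.symm ▸ Algebra.mem_top : π b ∈ E.map π)
    rw [show Θ b = Θ e from ext_algHom fun φ => by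
      rw [hΘ, hΘ]
      have hmem : G.sndPt φ - G.fstPt φ ∈ S := hSf _ (by
        rw [sub_eq_add_neg, hf, G.pt_f_eq hX φ, ← hf, add_neg_cancel, hf.zero])
      exact sub_eq_zero.mp (by rw [← map_sub]; exact (hS _).mp hmem _ (by rw [map_sub, hee, sub_self]))]
    exact hΘE e he
  have hright : ∀ b : A, (1 : A) ⊗ₜ[Polynomial k] b ∈ ι.range := by
    intro b
    obtain ⟨m, c, d, hcd⟩ := G.decomp b
    rw [show (1 : A) ⊗ₜ[Polynomial k] b = ∑ i, c i ⊗ₜ[Polynomial k] (1 : A) * Θ (d i) from ext_algHom (k := k) fun φ => by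
      simp only [map_sum, map_mul, G.apply_tmul, map_one, mul_one, one_mul, hΘ, ← hcd, add_sub_cancel]]
    exact sum_mem fun i _ => mul_mem (hleft _) (hΘall _)
  rw [eq_top_iff]
  intro b _
  let q : A →ₗ[Polynomial k] A ⧸ Subalgebra.toSubmodule U' := (Subalgebra.toSubmodule U').mkQ
  have h0 : ∀ z, LinearMap.lTensor A q (ι z) = 0 := by
    intro z
    induction z using TensorProduct.induction_on with
    | zero => simp
    | tmul x y =>
      simp only [ι, AlgHom.restrictScalars_apply, Algebra.TensorProduct.map_tmul, AlgHom.id_apply,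
        LinearMap.lTensor_tmul]
      rw [show q (U'.val y) = 0 from (Submodule.Quotient.mk_eq_zero _).mpr y.2, TensorProduct.tmul_zero]
    | add x y hx hy => rw [map_add, map_add, hx, hy, add_zero]
  obtain ⟨z, hz⟩ := (AlgHom.mem_range _).mp (hright b)
  have h1 : (1 : A) ⊗ₜ[Polynomial k] q b = 0 := by
    rw [← LinearMap.lTensor_tmul, ← hz]; exact h0 z
  exact (Submodule.Quotient.mk_eq_zero _).mp (Module.FaithfullyFlat.tensorProduct_mk_injective
    (A := Polynomial k) (B := A) (A ⧸ Subalgebra.toSubmodule U') (a₁ := q b) (a₂ := 0) (by simpa using h1))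

end PGrp

end Groth.Agent.H27PGrp
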